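import Cfsg.Agent.Lib.TwoXDih.JLemma

/-!
# Affine groups on a field of characteristic two with semilinear point stabiliser

A transitive group of affine permutations of `GF(q)` whose stabiliser of `0` is semilinear and contains
the scalars: basic properties, and the group induced on a fixed field.
-/

set_option autoImplicit false
set_option linter.style.haveILetI false
set_option linter.unusedSectionVars false

namespace Cfsg.Agent.GoodInvol.LemmaT

open Equiv

variable {F : Type} [Field F]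

/-- The hypotheses. -/
structure ACfg (A : Subgroup (Perm F)) : Prop where
  aff : ∀ g ∈ A, ∀ x y, g (x + y) = g x + g y + g 0
  trans : ∀ e : F, ∃ g ∈ A, g 0 = e
  scalar : ∀ c : F, c ≠ 0 → ∃ g ∈ A, ∀ x, g x = c * x
  semi : ∀ g ∈ A, g 0 = 0 → ∀ c, ∃ c2, ∀ x, g (c * x) = c2 * g x

/-- All translations. -/
def AllTrans (A : Subgroup (Perm F)) : Prop :=
  ∀ e : F, ∃ g ∈ A, ∀ x, g x = x + e

variable {A : Subgroup (Perm F)}

section
variable [CharP F 2] (h : ACfg A)
include h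

theorem allTrans_of_one {e : F} (he : e ≠ 0) {g : Perm F} (hg : g ∈ A) (hge : ∀ x, g x = x + e) :
    AllTrans A := fun d => by
  rcases eq_or_ne d 0 with rfl | hd
  · exact ⟨1, one_mem A, fun x => by simp⟩
  obtain ⟨m, hm, hmc⟩ := h.scalar (d / e) (div_ne_zero hd he)
  refine ⟨m * g * m⁻¹, mul_mem (mul_mem hm hg) (inv_mem hm), fun x => ?_⟩
  obtain ⟨y, rfl⟩ := m.surjective x
  rw [Perm.mul_apply, Perm.mul_apply, Perm.coe_inv, m.symm_apply_apply, hge, hmc, hmc, mul_add,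
    div_mul_cancel₀ _ he]

theorem add_of_fix {g : Perm F} (hg : g ∈ A) (h0 : g 0 = 0) (x y : F) : g (x + y) = g x + g y := by
  rw [h.aff g hg, h0, add_zero]

theorem one_ne_of_fix {g : Perm F} (h0 : g 0 = 0) : g 1 ≠ 0 := fun e =>
  one_ne_zero (g.injective (e.trans h0.symm))

/-- An element fixing `0` is a multiple of an automorphism. -/
theorem exists_aut {g : Perm F} (hg : g ∈ A) (h0 : g 0 = 0) :
    ∃ τ : F ≃+* F, ∀ x, g x = g 1 * τ x := by
  have h1 : g 1 ≠ 0 := one_ne_of_fix h h0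
  refine ⟨{ (g.trans (Equiv.mulLeft₀ (g 1)⁻¹ (inv_ne_zero h1))) with
    map_mul' := fun x y => ?_, map_add' := fun x y => ?_ }, fun x => ?_⟩
  · obtain ⟨c2, hc2⟩ := h.semi g hg h0 x
    have e1 := hc2 1
    rw [mul_one] at e1
    show (g 1)⁻¹ * g (x * y) = (g 1)⁻¹ * g x * ((g 1)⁻¹ * g y)
    rw [hc2 y, e1]
    field_simp
  · show (g 1)⁻¹ * g (x + y) = (g 1)⁻¹ * g x + (g 1)⁻¹ * g y
    rw [add_of_fix h hg h0, mul_add]
  · show g x = g 1 * ((g 1)⁻¹ * g x)
    rw [← mul_assoc, mul_inv_cancel₀ h1, one_mul]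

theorem exists_aut_of_one {g : Perm F} (hg : g ∈ A) (h0 : g 0 = 0) (h1 : g 1 = 1) :
    ∃ τ : F ≃+* F, ∀ x, g x = τ x := by
  obtain ⟨τ, hτ⟩ := exists_aut h hg h0
  exact ⟨τ, fun x => by rw [hτ, h1, one_mul]⟩

/-- The linear part of a product. -/
theorem lin_mul {g g' : Perm F} (hg : g ∈ A) (x : F) :
    (g * g') x + (g * g') 0 = g (g' x + g' 0) + g 0 := by
  rw [Perm.mul_apply, Perm.mul_apply, h.aff g hg, add_assoc (g (g' x) + g (g' 0)), CharTwo.add_self_eq_zero,
    add_zero]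

/-- The linear part of an involution is one. -/
theorem lin_lin {g : Perm F} (hg : g ∈ A) (h2 : g * g = 1) (x : F) : g (g x + g 0) + g 0 = x := by
  rw [← lin_mul h hg, h2, Perm.one_apply, Perm.one_apply, add_zero]

end

/-- The field fixed by an automorphism. -/
def fixK (τ : F ≃+* F) : Subfield F where
  carrier := {x | τ x = x}
  one_mem' := map_one τ
  mul_mem' {a b} ha hb := by show τ (a * b) = a * b; rw [map_mul, ha, hb]
  zero_mem' := map_zero τ
  add_mem' {a b} ha hb := by show τ (a + b) = a + b; rw [map_add, ha, hb]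
  neg_mem' {a} ha := by show τ (-a) = -a; rw [map_neg, ha]
  inv_mem' a ha := by show τ a⁻¹ = a⁻¹; rw [map_inv₀, ha]

theorem mem_fixK {τ : F ≃+* F} {x : F} : x ∈ fixK τ ↔ τ x = x := Iff.rfl

instance charP_fixK [CharP F 2] (τ : F ≃+* F) : CharP (fixK τ) 2 :=
  (fixK τ).subtype.charP Subtype.val_injective 2

/-- The group induced on the fixed field by the elements commuting with the automorphism. -/
def restr (A : Subgroup (Perm F)) (τ : F ≃+* F) : Subgroup (Perm (fixK τ)) where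
  carrier := {p | ∃ g ∈ A, (∀ x, g (τ x) = τ (g x)) ∧ ∀ x : fixK τ, (p x : F) = g x}
  one_mem' := ⟨1, one_mem A, fun _ => rfl, fun _ => rfl⟩
  mul_mem' {p p'} hp hp' := by
    obtain ⟨g, hg, hgc, hgp⟩ := hp
    obtain ⟨g', hg', hgc', hgp'⟩ := hp'
    exact ⟨g * g', mul_mem hg hg', fun x => by rw [Perm.mul_apply, hgc', hgc, Perm.mul_apply],
      fun x => by rw [Perm.mul_apply, hgp, hgp', Perm.mul_apply]⟩
  inv_mem' {p} hp := by
    obtain ⟨g, hg, hgc, hgp⟩ := hp
    refine ⟨g⁻¹, inv_mem hg, fun x => ?_, fun x => ?_⟩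
    · obtain ⟨y, rfl⟩ := g.surjective x
      rw [← hgc, Perm.coe_inv, g.symm_apply_apply, g.symm_apply_apply]
    · obtain ⟨y, rfl⟩ := p.surjective x
      rw [Perm.coe_inv, p.symm_apply_apply, hgp, Perm.coe_inv, g.symm_apply_apply]

theorem mem_restr {τ : F ≃+* F} {g : Perm F} (hg : g ∈ A) (hc : ∀ x, g (τ x) = τ (g x)) :
    ∃ p ∈ restr A τ, ∀ x : fixK τ, (p x : F) = g x := by
  have hi : ∀ x, x ∈ fixK τ ↔ g x ∈ fixK τ := fun x =>
    ⟨fun hx => by rw [mem_fixK] at hx ⊢; rw [← hc, hx],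
      fun hx => by rw [mem_fixK] at hx ⊢; exact g.injective (by rw [hc, hx])⟩
  exact ⟨g.subtypePerm fun x => (hi x).symm, ⟨g, hg, hc, fun _ => rfl⟩, fun _ => rfl⟩

theorem acfg_restr (h : ACfg A) (τ : F ≃+* F)
    (htr : ∀ e ∈ fixK τ, ∃ g ∈ A, (∀ x, g (τ x) = τ (g x)) ∧ g 0 = e) : ACfg (restr A τ) where
  aff p hp x y := by
    obtain ⟨g, hg, -, hgp⟩ := hp
    refine Subtype.ext ?_
    rw [hgp]
    push_cast
    rw [hgp, hgp, hgp, h.aff g hg]
    rfl
  trans e := by
    obtain ⟨g, hg, hc, he⟩ := htr e e.2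
    obtain ⟨p, hp, hpg⟩ := mem_restr hg hc
    exact ⟨p, hp, Subtype.ext ((hpg 0).trans he)⟩
  scalar c hc := by
    obtain ⟨g, hg, hgc⟩ := h.scalar c fun e => hc (Subtype.ext e)
    obtain ⟨p, hp, hpg⟩ := mem_restr (τ := τ) hg fun x => by rw [hgc, hgc, map_mul, c.2]
    exact ⟨p, hp, fun x => Subtype.ext (by rw [hpg, hgc]; rfl)⟩
  semi p hp h0 c := by
    obtain ⟨g, hg, -, hgp⟩ := hp
    have hg0 : g 0 = 0 := by
      have e := hgp 0
      rw [h0] at e
      exact e.symm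
    obtain ⟨c2, hc2⟩ := h.semi g hg hg0 c
    have e1 : (p c : F) = c2 * (p 1 : F) := by
      rw [hgp, hgp]
      simpa using hc2 1
    have h1 : (p 1 : F) ≠ 0 := by rw [hgp]; exact fun e => one_ne_zero (g.injective (e.trans hg0.symm))
    have hmem : c2 ∈ fixK τ := by
      have e2 : c2 = (p c : F) / (p 1 : F) := by rw [e1, mul_div_cancel_right₀ _ h1]
      rw [e2]
      exact div_mem (p c).2 (p 1).2
    exact ⟨⟨c2, hmem⟩, fun x => Subtype.ext (by
      rw [hgp]
      push_cast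
      rw [hc2, hgp])⟩

end Cfsg.Agent.GoodInvol.LemmaT
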