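import Cfsg.Agent.Lib.GoodInvol.LemmaT.Basic

/-!
# Two and four elements, eight elements with an automorphism of order three
-/

set_option autoImplicit false
set_option linter.style.haveILetI false
set_option linter.unusedSectionVars false

namespace Cfsg.Agent.GoodInvol.LemmaT

open Equiv

variable {F : Type} [Field F] [Fintype F] [CharP F 2] {A : Subgroup (Perm F)}

theorem allTrans_two (h : ACfg A) (h2 : Nat.card F = 2) : AllTrans A := by
  classical
  rw [Nat.card_eq_fintype_card] at h2
  have hu : (Finset.univ : Finset F) = {0, 1} :=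
    (Finset.eq_univ_of_card _ (by rw [Finset.card_pair zero_ne_one, h2])).symm
  have hall : ∀ x : F, x = 0 ∨ x = 1 := fun x => by
    have hx := Finset.mem_univ x
    rw [hu] at hx
    simpa using hx
  obtain ⟨g, hg, hg0⟩ := h.trans 1
  have hg1 : g 1 = 0 := (hall (g 1)).resolve_right fun e => one_ne_zero (g.injective (e.trans hg0.symm))
  refine allTrans_of_one h one_ne_zero hg fun x => ?_
  rcases hall x with rfl | rfl
  · rw [hg0, zero_add]
  · rw [hg1, CharTwo.add_self_eq_zero]

theorem allTrans_four (h : ACfg A) (h4 : Nat.card F = 4) : AllTrans A := by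
  classical
  rw [Nat.card_eq_fintype_card] at h4
  obtain ⟨w, hw⟩ : ∃ w : F, w ∉ ({0, 1} : Finset F) := by
    by_contra hn
    push Not at hn
    have := Finset.card_le_card (fun x _ => hn x : (Finset.univ : Finset F) ⊆ {0, 1})
    rw [Finset.card_univ, h4, Finset.card_pair zero_ne_one] at this
    omega
  simp only [Finset.mem_insert, Finset.mem_singleton, not_or] at hw
  obtain ⟨hw0, hw1⟩ := hw
  have hw10 : w + 1 ≠ 0 := fun e => hw1 (CharTwo.add_eq_zero.1 e)
  have hd1 : w + 1 ≠ 1 := fun e => hw0 (add_eq_right.1 e)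
  have hd2 : w + 1 ≠ w := fun e => one_ne_zero (add_eq_left.1 e)
  have hu : (Finset.univ : Finset F) = {0, 1, w, w + 1} := (Finset.eq_univ_of_card _ (by
    rw [h4, Finset.card_insert_of_notMem (by simp [Ne.symm hw0, hw10.symm]),
      Finset.card_insert_of_notMem (by simp [Ne.symm hw1, hd1.symm]), Finset.card_pair hd2.symm])).symm
  have hall : ∀ x : F, x = 0 ∨ x = 1 ∨ x = w ∨ x = w + 1 := fun x => by
    have hx := Finset.mem_univ x
    rw [hu] at hx
    simpa using hx
  have hww : ∀ z : F, z ≠ 0 → z ≠ 1 → z * z + z + 1 = 0 := fun z hz hz1 => by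
    have e : z ^ 3 = 1 := by
      have := FiniteField.pow_card_sub_one_eq_one z hz
      rwa [h4] at this
    have h2 : (z + 1) * (z * z + z + 1) = 0 := by
      linear_combination e + (z * z + z + 1) * CharTwo.two_eq_zero (R := F)
    exact (mul_eq_zero.1 h2).resolve_left fun e => hz1 (CharTwo.add_eq_zero.1 e)
  obtain ⟨g, hg, hg0⟩ := h.trans 1
  set L : F → F := fun x => g x + 1 with hL
  have hLadd : ∀ x y, L (x + y) = L x + L y := fun x y => by
    simp only [hL, h.aff g hg, hg0]
    ring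
  have hLinj : ∀ x y, L x = L y → x = y := fun x y e => g.injective (add_right_cancel e)
  have hL0 : L 0 = 0 := by simp only [hL, hg0]; exact CharTwo.add_self_eq_zero 1
  have hL1 : L 1 ≠ 0 := fun e => one_ne_zero (hLinj _ _ (e.trans hL0.symm))
  have hLw : L w ≠ 0 := fun e => hw0 (hLinj _ _ (e.trans hL0.symm))
  set z := L w / L 1 with hz
  have hz0 : z ≠ 0 := div_ne_zero hLw hL1
  have hz1 : z ≠ 1 := fun e => hw1 (hLinj _ _ ((div_eq_one_iff_eq hL1).1 e))
  have hzL : L w = z * L 1 := by rw [hz, div_mul_cancel₀ _ hL1]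
  have hsemi : ∀ x, L (w * x) = z * L x := fun x => by
    have hsq : w * w = w + 1 := by
      linear_combination hww w hw0 hw1 + (-w - 1) * CharTwo.two_eq_zero (R := F)
    rcases hall x with rfl | rfl | rfl | rfl
    · rw [mul_zero, hL0, mul_zero]
    · rw [mul_one, hzL]
    · rw [hsq, hLadd, hzL]
      linear_combination (-(L 1)) * hww z hz0 hz1 + (z + 1) * L 1 * CharTwo.two_eq_zero (R := F)
    · rw [show w * (w + 1) = 1 by linear_combination hww w hw0 hw1 - CharTwo.two_eq_zero (R := F), hLadd,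
        hzL]
      linear_combination (-(L 1)) * hww z hz0 hz1 + L 1 * CharTwo.two_eq_zero (R := F)
  obtain ⟨c', hc0, hc'⟩ : ∃ c', c' ≠ 0 ∧ ∀ x, L (c' * x) = w * L x := by
    rcases hall z with e | e | e | e
    · exact absurd e hz0
    · exact absurd e hz1
    · exact ⟨w, hw0, fun x => by rw [hsemi, e]⟩
    · refine ⟨w + 1, hw10, fun x => ?_⟩
      rw [add_mul, one_mul, hLadd, hsemi, e]
      linear_combination L x * CharTwo.two_eq_zero (R := F)
  obtain ⟨m, hm, hmw⟩ := h.scalar w hw0
  obtain ⟨m', hm', hmc⟩ := h.scalar c' hc0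
  have hk : ∀ x, (g⁻¹ * m * g) x = c' * x + (g⁻¹ * m * g) 0 := fun x => by
    set k0 := (g⁻¹ * m * g) 0 with hk0
    have hgk : g k0 = w := by
      rw [hk0, Perm.mul_apply, Perm.mul_apply, Perm.coe_inv, g.apply_symm_apply, hg0, hmw, mul_one]
    refine g.injective ?_
    have hc2 := hc' x
    simp only [hL] at hc2
    rw [Perm.mul_apply, Perm.mul_apply, Perm.coe_inv, g.apply_symm_apply, hmw, h.aff g hg, hgk, hg0]
    linear_combination -hc2 - w * CharTwo.two_eq_zero (R := F)
  have hk0ne : (g⁻¹ * m * g) 0 ≠ 0 := fun e => hw1 (by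
    have := congrArg g e
    rwa [Perm.mul_apply, Perm.mul_apply, Perm.coe_inv, g.apply_symm_apply, hg0, hmw, mul_one] at this)
  refine allTrans_of_one h hk0ne (mul_mem (mul_mem (mul_mem (inv_mem hg) hm) hg) (inv_mem hm')) fun x => ?_
  obtain ⟨y, rfl⟩ := m'.surjective x
  rw [Perm.mul_apply (g⁻¹ * m * g) m'⁻¹, Perm.coe_inv m', m'.symm_apply_apply, hmc, hk]

/-- An injective additive map of eight elements commuting with an automorphism of order three and fixing
`1` is one of its powers. -/
theorem eight_commute {K : Type} [Field K] [Finite K] [CharP K 2] (h8 : Nat.card K = 8) (ρ : K → K)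
    (hρa : ∀ x y, ρ (x + y) = ρ x + ρ y) (hρ3 : ∀ x, ρ (ρ (ρ x)) = x) (hρ1 : ρ 1 = 1)
    (hρf : ∀ x, ρ x = x → x = 0 ∨ x = 1) (ψ : K → K) (hψa : ∀ x y, ψ (x + y) = ψ x + ψ y)
    (hψi : Function.Injective ψ) (hψ1 : ψ 1 = 1) (hc : ∀ x, ψ (ρ x) = ρ (ψ x)) :
    (∀ x, ψ x = x) ∨ (∀ x, ψ (ρ (ρ x)) = x) ∨ ∀ x, ψ (ρ x) = x := by
  classical
  haveI := Fintype.ofFinite K
  rw [Nat.card_eq_fintype_card] at h8
  have hρ0 : ρ 0 = 0 := by
    have := hρa 0 0; rw [add_zero] at this; exact (add_eq_left.1 this.symm)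
  have hψ0 : ψ 0 = 0 := by
    have := hψa 0 0; rw [add_zero] at this; exact (add_eq_left.1 this.symm)
  set t : K → K := fun x => x + ρ x + ρ (ρ x) with ht
  have hta : ∀ x y, t (x + y) = t x + t y := fun x y => by simp only [ht, hρa]; ring
  have ht1 : t 1 = 1 := by
    simp only [ht, hρ1]; linear_combination CharTwo.two_eq_zero (R := K)
  have htr : ∀ x, t (ρ x) = t x := fun x => by simp only [ht, hρ3]; ring
  have ht01 : ∀ x, t x = 0 ∨ t x = 1 := fun x => hρf _ (by
    simp only [ht, hρa, hρ3]; ring)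
  have htψ : ∀ x, t (ψ x) = ψ (t x) := fun x => by simp only [ht, hψa, hc]
  set T : Finset K := Finset.univ.filter fun x => t x = 0 with hT
  set T' : Finset K := Finset.univ.filter fun x => ¬ t x = 0 with hT'
  have hflip : ∀ x, t x ≠ 0 → t (x + 1) = 0 := fun x hx => by
    rw [hta, ht1, (ht01 x).resolve_left hx]; exact CharTwo.add_self_eq_zero 1
  have hcard : T.card = 4 := by
    have h1 : T.card + T'.card = 8 := by
      rw [hT, hT', Finset.card_filter_add_card_filter_not, Finset.card_univ, h8]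
    have h2 : T.card = T'.card := by
      refine Finset.card_bij (fun x _ => x + 1) (fun x hx => ?_) (fun x _ y _ e => add_right_cancel e)
        fun y hy => ⟨y + 1, ?_, ?_⟩
      · simp only [hT, hT', Finset.mem_filter, Finset.mem_univ, true_and] at hx ⊢
        rw [hta, ht1, hx, zero_add]
        exact one_ne_zero
      · simp only [hT, hT', Finset.mem_filter, Finset.mem_univ, true_and] at hy ⊢
        exact hflip y hy
      · rw [add_assoc, CharTwo.add_self_eq_zero, add_zero]
    omega
  obtain ⟨a, ha, ha0⟩ := Finset.exists_mem_ne (by omega : 1 < T.card) 0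
  simp only [hT, Finset.mem_filter, Finset.mem_univ, true_and] at ha
  have hra : ρ a ≠ a := fun e => (hρf a e).elim ha0 fun e1 => by
    rw [e1, ht1] at ha; exact one_ne_zero ha
  have hr0 : ∀ x, x ≠ 0 → ρ x ≠ 0 := fun x hx e => hx (by rw [← hρ3 x, e, hρ0, hρ0])
  have hsub : T = {0, a, ρ a, ρ (ρ a)} := by
    refine (Finset.eq_of_subset_of_card_le (fun x hx => ?_) ?_).symm
    · simp only [Finset.mem_insert, Finset.mem_singleton] at hx
      simp only [hT, Finset.mem_filter, Finset.mem_univ, true_and]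
      rcases hx with rfl | rfl | rfl | rfl
      · simp only [ht, hρ0, add_zero]
      · exact ha
      · rw [htr, ha]
      · rw [htr, htr, ha]
    · rw [hcard, Finset.card_insert_of_notMem (by
          simp [Ne.symm ha0, Ne.symm (hr0 a ha0), Ne.symm (hr0 _ (hr0 a ha0))]),
        Finset.card_insert_of_notMem (by
          simp only [Finset.mem_insert, Finset.mem_singleton, not_or]
          exact ⟨hra.symm, fun e => hra (by conv_lhs => rw [e, hρ3])⟩),
        Finset.card_pair fun e => hra (by have := congrArg ρ (congrArg ρ e); rw [hρ3] at this; exact this.symm)]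
  have hmem : ∀ x, t x = 0 → x = 0 ∨ x = a ∨ x = ρ a ∨ x = ρ (ρ a) := fun x hx => by
    have : x ∈ T := by simp only [hT, Finset.mem_filter, Finset.mem_univ, true_and]; exact hx
    rw [hsub] at this
    simpa only [Finset.mem_insert, Finset.mem_singleton] using this
  have key : ∀ r : K → K, (∀ x y, r (x + y) = r x + r y) → (∀ x, r (ρ x) = ρ (r x)) → r 1 = 1 →
      ψ (r a) = a → ∀ x, ψ (r x) = x := by
    intro r hra' hrc hr1 hr x
    have hr00 : r 0 = 0 := by
      have := hra' 0 0; rw [add_zero] at this; exact (add_eq_left.1 this.symm)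
    have hT0 : ∀ y, t y = 0 → ψ (r y) = y := fun y hy => by
      rcases hmem y hy with rfl | rfl | rfl | rfl
      · rw [hr00, hψ0]
      · exact hr
      · rw [hrc, hc, hr]
      · rw [hrc, hrc, hc, hc, hr]
    rcases eq_or_ne (t x) 0 with e | e
    · exact hT0 x e
    · have := hT0 (x + 1) (hflip x e)
      rw [hra', hr1, hψa, hψ1] at this
      exact add_right_cancel this
  rcases hmem (ψ a) (by rw [htψ, ha, hψ0]) with e | e | e | e
  · exact absurd (hψi (e.trans hψ0.symm)) ha0
  · exact Or.inl (key id (fun _ _ => rfl) (fun _ => rfl) rfl e)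
  · exact Or.inr (Or.inl (key (fun x => ρ (ρ x)) (fun x y => by simp only [hρa]) (fun _ => rfl)
      (by simp only [hρ1]) (by rw [hc, hc, e, hρ3])))
  · exact Or.inr (Or.inr (key ρ hρa (fun _ => rfl) hρ1 (by rw [hc, e, hρ3])))

/-- An automorphism of order three is unique up to inversion. -/
theorem aut_three {σ σ' : F ≃+* F} (hs : σ ≠ 1) (hs3 : σ ^ 3 = 1) (h' : σ' ^ 3 = 1) :
    σ' = 1 ∨ σ' = σ ∨ σ' = σ * σ := by
  rcases eq_or_ne σ' 1 with e | e
  · exact Or.inl e
  haveI := RankOne.isCyclic_aut (F := F)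
  haveI : Fact (Nat.Prime 3) := ⟨Nat.prime_three⟩
  have ho : ∀ τ : F ≃+* F, τ ≠ 1 → τ ^ 3 = 1 → orderOf τ = 3 := fun τ h1 h2 => orderOf_eq_prime h2 h1
  have hz : Subgroup.zpowers σ' = Subgroup.zpowers σ :=
    TwoXDih.JL.eq_of_card_cyclic (by rw [Nat.card_zpowers, Nat.card_zpowers, ho σ hs hs3, ho σ' e h'])
  have hm : σ' ∈ Subgroup.zpowers σ := hz ▸ Subgroup.mem_zpowers σ'
  classical
  have h3 := (IsOfFinOrder.mem_zpowers_iff_mem_range_orderOf (isOfFinOrder_of_finite σ)).1 hm
  rw [Finset.mem_image, ho σ hs hs3] at h3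
  obtain ⟨k, hk, hke⟩ := h3
  rw [Finset.mem_range] at hk
  interval_cases k
  · exact absurd (by rw [← hke, pow_zero]) e
  · exact Or.inr (Or.inl (by rw [← hke, pow_one]))
  · exact Or.inr (Or.inr (by rw [← hke, pow_two]))

end Cfsg.Agent.GoodInvol.LemmaT
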