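import Cfsg.Agent.Lib.GoodInvol.LemmaT.Lines
import Cfsg.Agent.Lib.GoodInvol.LemmaT.Small

/-!
# The group induced on the fixed field is not the exceptional one

If it were, the stabiliser would contain an automorphism `ρ` of order three of the field of `64` elements;
its centraliser moves `0` to `1` by an element commuting with the field involution, and this gives a
translation of the fixed field of eight elements.
-/

set_option autoImplicit false
set_option linter.style.haveILetI false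
set_option linter.unusedSectionVars false

namespace Cfsg.Agent.GoodInvol.LemmaT

open Equiv

variable {F : Type} [Field F] [Fintype F] [CharP F 2] {A : Subgroup (Perm F)}

theorem pow_pred_card {τ : F ≃+* F} {n : ℕ} (hn : Nat.card (fixK τ) = n) {x : F} (hx : τ x = x) (h0 : x ≠ 0) :
    x ^ (n - 1) = 1 := by
  haveI : Fintype (fixK τ) := Fintype.ofFinite _
  have := FiniteField.pow_card_sub_one_eq_one (K := fixK τ) ⟨x, hx⟩ fun e => h0 (congrArg Subtype.val e)
  rw [← Nat.card_eq_fintype_card, hn] at this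
  exact congrArg Subtype.val this

theorem fixK_card_pow (τ : F ≃+* F) : Nat.card (fixK τ) ^ orderOf τ = Nat.card F :=
  RankOne.fixed_card τ

theorem aut_comm (a b : F ≃+* F) : a * b = b * a := by
  haveI := RankOne.isCyclic_aut (F := F)
  exact (IsCyclic.commGroup (α := F ≃+* F)).mul_comm a b

theorem card_stab_exotic (h : ACfg A) (h8 : Nat.card F = 8) (h168 : Nat.card A = 168) :
    ∃ g ∈ A, g 0 = 0 ∧ ∃ x, g x ≠ g 1 * x := by
  classical
  by_contra hn
  push Not at hn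
  haveI : MulAction.IsPretransitive A F := ⟨fun x y => by
    obtain ⟨g, hg, hg0⟩ := h.trans x
    obtain ⟨k, hk, hk0⟩ := h.trans y
    refine ⟨⟨k * g⁻¹, mul_mem hk (inv_mem hg)⟩, ?_⟩
    show k (g⁻¹ x) = y
    rw [← hg0, Perm.coe_inv, g.symm_apply_apply, hk0]⟩
  set S := MulAction.stabilizer A (0 : F) with hS
  have hcard : Nat.card S = 21 := by
    have h1 := S.card_mul_index
    rw [hS, MulAction.index_stabilizer_of_transitive, h8, h168, ← hS] at h1
    omega
  have hinj : Function.Injective fun s : S => (⟨((s : A) : Perm F) 1, one_ne_of_fix_aux s⟩ : {x : F // x ≠ 0}) :=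
    fun s t e => Subtype.ext (Subtype.ext (Equiv.ext fun x => by
      have e' : ((s : A) : Perm F) 1 = ((t : A) : Perm F) 1 := congrArg Subtype.val e
      rw [hn _ (s : A).2 s.2 x, hn _ (t : A).2 t.2 x, e']))
  have h2 := Nat.card_le_card_of_injective _ hinj
  rw [hcard, Nat.card_eq_fintype_card, Fintype.card_subtype_compl, Fintype.card_subtype_eq,
    ← Nat.card_eq_fintype_card, h8] at h2
  omega
where
  one_ne_of_fix_aux {A : Subgroup (Perm F)} (s : MulAction.stabilizer A (0 : F)) :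
      ((s : A) : Perm F) 1 ≠ 0 :=
    fun e => one_ne_zero ((((s : A) : Perm F)).injective (e.trans (show ((s : A) : Perm F) 0 = 0 from s.2).symm))

variable (h : ACfg A) {σ : F ≃+* F} (hs : σ ≠ 1) (hs2 : σ * σ = 1) {φ : Perm F} (hφ : φ ∈ A)
  (hφs : ∀ x, φ x = σ x)
include h hs hs2 hφ hφs

/-- The exceptional group is not induced on the fixed field. -/
theorem not_exotic (h64 : Nat.card F = 64) (hK : Nat.card (fixK σ) = 8)
    (hT : ∀ e ∈ fixK σ, ∃ g ∈ A, (∀ x, g (σ x) = σ (g x)) ∧ g 0 = e)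
    (h168 : Nat.card (restr A σ) = 168) : AllTrans (restr A σ) := by
  classical
  haveI : Fintype (fixK σ) := Fintype.ofFinite _
  have hc := acfg_restr h σ hT
  -- a field automorphism in the group
  obtain ⟨p₀, ⟨g, hg, hgc, hgp⟩, hp0, x₀, hx₀⟩ := card_stab_exotic hc hK h168
  have hg0 : g 0 = 0 := by
    have := hgp 0
    rw [hp0] at this
    exact this.symm
  obtain ⟨τ, hτ⟩ := exists_aut h hg hg0
  have hc1 : g 1 ≠ 0 := one_ne_of_fix h hg0
  have hcK : σ (g 1) = g 1 := by rw [← hgc, map_one]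
  have hxK : τ x₀ ≠ x₀ := fun e => hx₀ (Subtype.ext (by
    push_cast
    rw [hgp, hgp, OneMemClass.coe_one, hτ x₀, e]))
  obtain ⟨m, hm, hmc⟩ := h.scalar (g 1)⁻¹ (inv_ne_zero hc1)
  have hτA : ∀ x, (m * g) x = τ x := fun x => by
    rw [Perm.mul_apply, hmc, hτ x, ← mul_assoc, inv_mul_cancel₀ hc1, one_mul]
  have hτσ : ∀ x, τ (σ x) = σ (τ x) := fun x => by
    rw [← hτA, ← hτA, Perm.mul_apply, Perm.mul_apply, hmc, hmc, hgc, map_mul, map_inv₀, hcK]
  set ρ := τ * τ with hρ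
  set hp := m * g * (m * g) with hhp
  have hpA : hp ∈ A := mul_mem (mul_mem hm hg) (mul_mem hm hg)
  have hρA : ∀ x, hp x = ρ x := fun x => by rw [hhp, Perm.mul_apply, hτA, hτA]; rfl
  have hρσ : ∀ x, ρ (σ x) = σ (ρ x) := fun x => by
    show τ (τ (σ x)) = σ (τ (τ x))
    rw [hτσ, hτσ]
  have hρ1 : ρ ≠ 1 := fun e => by
    rcases aut_unique hs hs2 e with e1 | e1
    · exact hxK (by rw [e1]; rfl)
    · exact hxK (by rw [e1]; exact x₀.2)
  have hρ3 : ρ ^ 3 = 1 := by
    have h1 := RankOne.FieldMaps.card_aut (F := F)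
    rw [← Nat.card_eq_fintype_card, h64] at h1
    have h2 : Nat.card (F ≃+* F) = 6 := (Nat.pow_right_injective (le_refl 2) (h1.symm.trans (by norm_num)))
    rw [hρ, ← pow_two, ← pow_mul, show 2 * 3 = Nat.card (F ≃+* F) from h2.symm, pow_card_eq_one']
  have hρ3' : ∀ x, ρ (ρ (ρ x)) = x := fun x => RingEquiv.congr_fun hρ3 x
  haveI : Fact (Nat.Prime 3) := ⟨Nat.prime_three⟩
  have hF1 : Nat.card (fixK ρ) = 4 := by
    have := fixK_card_pow ρ
    rw [orderOf_eq_prime hρ3 hρ1, h64] at this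
    exact Nat.pow_left_injective (by norm_num : 3 ≠ 0) (this.trans (by norm_num : (64 : ℕ) = 4 ^ 3))
  have hinter : ∀ x, ρ x = x → σ x = x → x = 0 ∨ x = 1 := fun x h1 h2 => by
    rcases eq_or_ne x 0 with e | e
    · exact Or.inl e
    have e3 : x ^ 3 = 1 := pow_pred_card hF1 h1 e
    have e7 : x ^ 7 = 1 := pow_pred_card hK h2 e
    refine Or.inr ?_
    linear_combination e7 - x * (x ^ 3 + 1) * e3
  obtain ⟨w, hw, hw0, hw1⟩ : ∃ w, ρ w = w ∧ w ≠ 0 ∧ w ≠ 1 := by
    haveI : Fintype (fixK ρ) := Fintype.ofFinite _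
    by_contra hn
    push Not at hn
    have hall : ∀ x : fixK ρ, x ∈ ({0, 1} : Finset (fixK ρ)) := fun x => by
      rw [Finset.mem_insert, Finset.mem_singleton]
      rcases eq_or_ne (x : F) 0 with e | e
      · exact Or.inl (Subtype.ext e)
      · exact Or.inr (Subtype.ext (hn x x.2 e))
    have h1 := Finset.card_le_card (fun x _ => hall x : (Finset.univ : Finset (fixK ρ)) ⊆ {0, 1})
    rw [Finset.card_univ, ← Nat.card_eq_fintype_card, hF1] at h1
    exact absurd (h1.trans Finset.card_le_two) (by norm_num)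
  -- the centraliser of `ρ` moves zero to every fixed point
  have hstep : ∀ p, ρ p = p → p ≠ 0 → ∃ g ∈ A, g 0 = p ∧
      ((∀ x, g (ρ x) = ρ (g x)) ∨ ∀ x, g (ρ (ρ x)) = ρ (g x)) := by
    intro p hp' hp0'
    obtain ⟨t, ht, ht0⟩ := h.trans p
    set q := t⁻¹ 0 with hq
    have htq : t q = 0 := t.apply_symm_apply 0
    have hq0 : q ≠ 0 := fun e => hp0' (ht0.symm.trans ((congrArg t e).symm.trans htq))
    obtain ⟨n, hn, hnq⟩ := h.scalar q hq0
    have hg'' : t * n ∈ A := mul_mem ht hn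
    have hk0 : ((t * n)⁻¹ * hp * (t * n)) 0 = 0 := by
      rw [Perm.mul_apply ((t * n)⁻¹ * hp), Perm.mul_apply (t * n)⁻¹, hρA, Perm.mul_apply t, hnq, mul_zero, ht0,
        hp']
      refine (t * n).injective ?_
      rw [Perm.coe_inv, (t * n).apply_symm_apply, Perm.mul_apply, hnq, mul_zero, ht0]
    have hk1 : ((t * n)⁻¹ * hp * (t * n)) 1 = 1 := by
      rw [Perm.mul_apply ((t * n)⁻¹ * hp), Perm.mul_apply (t * n)⁻¹, hρA, Perm.mul_apply t, hnq, mul_one, htq,
        map_zero]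
      refine (t * n).injective ?_
      rw [Perm.coe_inv, (t * n).apply_symm_apply, Perm.mul_apply, hnq, mul_one, htq]
    obtain ⟨τ', hτ'⟩ := exists_aut_of_one h (mul_mem (mul_mem (inv_mem hg'') hpA) hg'') hk0 hk1
    have hrel : ∀ x, (t * n) (τ' x) = ρ ((t * n) x) := fun x => by
      rw [← hτ', Perm.mul_apply ((t * n)⁻¹ * hp), Perm.mul_apply (t * n)⁻¹, Perm.coe_inv,
        (t * n).apply_symm_apply, hρA]
    have h3 : τ' ^ 3 = 1 := RingEquiv.ext fun x => (t * n).injective (by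
      show (t * n) (τ' (τ' (τ' x))) = (t * n) x
      rw [hrel, hrel, hrel, hρ3'])
    refine ⟨t * n, hg'', by rw [Perm.mul_apply, hnq, mul_zero, ht0], ?_⟩
    rcases aut_three hρ1 hρ3 h3 with e | e | e
    · refine absurd (RingEquiv.ext fun x => ?_) hρ1
      obtain ⟨y, rfl⟩ := (t * n).surjective x
      rw [← hrel, e]; rfl
    · exact Or.inl fun x => by rw [← hrel, e]
    · exact Or.inr fun x => by rw [← hrel, e]; rfl
  obtain ⟨p₁, hp₁, hp₁0, g₁, hg₁, hg₁0, hg₁c⟩ :
      ∃ p, ρ p = p ∧ p ≠ 0 ∧ ∃ g ∈ A, g 0 = p ∧ ∀ x, g (ρ x) = ρ (g x) := by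
    obtain ⟨a, haA, ha0, hac | hac⟩ := hstep 1 (map_one ρ) one_ne_zero
    · exact ⟨1, map_one ρ, one_ne_zero, a, haA, ha0, hac⟩
    obtain ⟨r, hr, hr0, har⟩ : ∃ r, ρ r = r ∧ r ≠ 0 ∧ a r ≠ 0 := by
      rcases eq_or_ne (a 1) 0 with e | e
      · exact ⟨w, hw, hw0, fun e' => hw1 (a.injective (e'.trans e.symm))⟩
      · exact ⟨1, map_one ρ, one_ne_zero, e⟩
    obtain ⟨b, hbA, hb0, hbc | hbc⟩ := hstep r hr hr0
    · exact ⟨r, hr, hr0, b, hbA, hb0, hbc⟩
    have har' : ρ (a r) = a r := by rw [← hac, hr, hr]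
    exact ⟨a r, har', har, a * b, mul_mem haA hbA, by rw [Perm.mul_apply, hb0], fun x => by
      have h1 := hbc (ρ (ρ x))
      rw [hρ3'] at h1
      rw [Perm.mul_apply, Perm.mul_apply, h1, hbc, hac]⟩
  have hT1 : ∀ e ∈ fixK ρ, ∃ g ∈ A, (∀ x, g (ρ x) = ρ (g x)) ∧ g 0 = e := fun e he => by
    rcases eq_or_ne e 0 with rfl | he0
    · exact ⟨1, one_mem A, fun _ => rfl, rfl⟩
    obtain ⟨n, hn, hne⟩ := h.scalar (e / p₁) (div_ne_zero he0 hp₁0)
    have hfix : ρ (e / p₁) = e / p₁ := by rw [map_div₀, hp₁, mem_fixK.1 he]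
    refine ⟨n * g₁, mul_mem hn hg₁, fun x => ?_, ?_⟩
    · rw [Perm.mul_apply, Perm.mul_apply, hne, hne, hg₁c, map_mul, hfix]
    · rw [Perm.mul_apply, hg₁0, hne, div_mul_cancel₀ _ hp₁0]
  haveI : Fintype (fixK ρ) := Fintype.ofFinite _
  obtain ⟨p₂, ⟨u, hu, huc, hup⟩, hp₂⟩ := allTrans_four (acfg_restr h ρ hT1) hF1 1
  have hu1 : ∀ x, ρ x = x → u x = x + 1 := fun x hx => by
    have := hup ⟨x, hx⟩
    rw [hp₂] at this
    exact this.symm
  -- it commutes with the field involution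
  have hφi : φ⁻¹ = φ := inv_eq_of_mul_eq_one_left (Equiv.ext fun y => by
    rw [Perm.mul_apply, hφs, hφs, sig_sig hs2]; rfl)
  have hkA : u⁻¹ * φ * u * φ ∈ A := mul_mem (mul_mem (mul_mem (inv_mem hu) hφ) hu) hφ
  have hkfix : ∀ x, ρ x = x → (u⁻¹ * φ * u * φ) x = x := fun x hx => by
    have hsx : ρ (σ x) = σ x := by rw [hρσ, hx]
    rw [Perm.mul_apply, Perm.mul_apply, Perm.mul_apply, hφs x, hu1 _ hsx, hφs, map_add, map_one, sig_sig hs2,
      ← hu1 x hx]
    exact u.symm_apply_apply x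
  obtain ⟨τ', hτ'⟩ := exists_aut_of_one h hkA (hkfix 0 (map_zero ρ)) (hkfix 1 (map_one ρ))
  have hrel : ∀ x, u (τ' x) = σ (u (σ x)) := fun x => by
    rw [← hτ', Perm.mul_apply, Perm.mul_apply, Perm.mul_apply, Perm.coe_inv, u.apply_symm_apply, hφs, hφs]
  have hτ'2 : τ' * τ' = 1 := RingEquiv.ext fun x => u.injective (by
    show u (τ' (τ' x)) = u x
    rw [hrel, show σ (τ' x) = τ' (σ x) from RingEquiv.congr_fun (aut_comm σ τ') x, hrel, sig_sig hs2,
      sig_sig hs2])
  have huσ : ∀ x, u (σ x) = σ (u x) := fun x => by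
    rcases aut_unique hs hs2 hτ'2 with e | e
    · have := hrel (σ x)
      rw [e, sig_sig hs2] at this
      exact this
    · refine absurd (hinter w hw ?_) (by tauto)
      rw [← e, ← hτ', hkfix w hw]
  -- on the fixed field
  have hclos : ∀ x : fixK σ, ρ x ∈ fixK σ := fun x => by
    rw [mem_fixK, ← hρσ, mem_fixK.1 x.2]
  have hu0 : u 0 = 1 := by rw [hu1 0 (map_zero ρ), zero_add]
  have hu1' : u 1 = 0 := by rw [hu1 1 (map_one ρ), CharTwo.add_self_eq_zero]
  have huK : ∀ x : fixK σ, u x + 1 ∈ fixK σ := fun x =>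
    add_mem (by rw [mem_fixK, ← huσ, mem_fixK.1 x.2]) (one_mem _)
  let ρK : fixK σ → fixK σ := fun x => ⟨ρ x, hclos x⟩
  let ψ : fixK σ → fixK σ := fun x => ⟨u x + 1, huK x⟩
  have key := eight_commute hK ρK (fun x y => Subtype.ext (map_add ρ (x : F) (y : F)))
    (fun x => Subtype.ext (hρ3' _)) (Subtype.ext (map_one ρ))
    (fun x hx => (hinter x (congrArg Subtype.val hx) x.2).imp (fun e => Subtype.ext e) (fun e => Subtype.ext e))
    ψ (fun x y => Subtype.ext (by
      show u ((x + y : fixK σ) : F) + 1 = u x + 1 + (u y + 1)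
      push_cast
      rw [h.aff u hu, hu0]; ring))
    (fun x y e => Subtype.ext (u.injective (add_right_cancel (congrArg Subtype.val e))))
    (Subtype.ext (by show u 1 + 1 = 1; rw [hu1', zero_add]))
    (fun x => Subtype.ext (by show u (ρ x) + 1 = ρ (u x + 1); rw [huc, map_add, map_one]))
  have hhpc : ∀ x, hp (σ x) = σ (hp x) := fun x => by rw [hρA, hρA, hρσ]
  obtain ⟨f, hf, hfc, hf1⟩ : ∃ f ∈ A, (∀ x, f (σ x) = σ (f x)) ∧ ∀ x : fixK σ, f x = x + 1 := by
    have hcancel : ∀ (y : F) (x : fixK σ), y + 1 = x → y = x + 1 := fun y x e => by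
      rw [← e, add_assoc, CharTwo.add_self_eq_zero, add_zero]
    rcases key with e | e | e
    · exact ⟨u, hu, huσ, fun x => hcancel _ x (congrArg Subtype.val (e x))⟩
    · refine ⟨u * (hp * hp), mul_mem hu (mul_mem hpA hpA), fun x => ?_, fun x => ?_⟩
      · simp only [Perm.mul_apply, hhpc, huσ]
      · rw [Perm.mul_apply, Perm.mul_apply, hρA, hρA]
        exact hcancel _ x (congrArg Subtype.val (e x))
    · refine ⟨u * hp, mul_mem hu hpA, fun x => ?_, fun x => ?_⟩
      · simp only [Perm.mul_apply, hhpc, huσ]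
      · rw [Perm.mul_apply, hρA]
        exact hcancel _ x (congrArg Subtype.val (e x))
  obtain ⟨p₃, hp₃, hp₃f⟩ := mem_restr hf hfc
  exact allTrans_of_one hc one_ne_zero hp₃ fun x => Subtype.ext (by rw [hp₃f, hf1]; rfl)

end Cfsg.Agent.GoodInvol.LemmaT
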