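import Cfsg.Agent.Lib.GoodInvol.LemmaT.Basic

/-!
# An involutive field automorphism in the group: every involution fixing a point fixes a line

If the stabiliser contains a field involution `σ` with fixed field `K`, the linear part of an involution
fixing a point fixes exactly a line `d • K`; an involution commuting with `σ` and inducing a translation
on `K` then has linear part `y ↦ y + δ (y + σ y)`.
-/

set_option autoImplicit false
set_option linter.style.haveILetI false
set_option linter.unusedSectionVars false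

namespace Cfsg.Agent.GoodInvol.LemmaT

open Equiv

variable {F : Type} [Field F] [Fintype F] [CharP F 2] {A : Subgroup (Perm F)}

/-- The line of `d` over the fixed field. -/
def line (σ : F ≃+* F) (d : F) : Set F :=
  {x | σ (x / d) = x / d}

/-- The fixed space of the linear part. -/
def linFix (g : Perm F) : Set F :=
  {x | g x + g 0 = x}

/-- The involutions fixing `p`. -/
def invs (A : Subgroup (Perm F)) (p : F) : Set (Perm F) :=
  {g | g ∈ A ∧ g p = p ∧ g * g = 1 ∧ g ≠ 1}

/-- An automorphism of order two is unique. -/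
theorem aut_unique {σ σ' : F ≃+* F} (hs : σ ≠ 1) (hs2 : σ * σ = 1) (h' : σ' * σ' = 1) :
    σ' = 1 ∨ σ' = σ := by
  rcases eq_or_ne σ' 1 with e | e
  · exact Or.inl e
  haveI := RankOne.isCyclic_aut (F := F)
  have ho : ∀ τ : F ≃+* F, τ ≠ 1 → τ * τ = 1 → orderOf τ = 2 := fun τ h1 h2 =>
    orderOf_eq_prime (by rw [pow_two, h2]) h1
  have hz : Subgroup.zpowers σ' = Subgroup.zpowers σ :=
    TwoXDih.JL.eq_of_card_cyclic (by rw [Nat.card_zpowers, Nat.card_zpowers, ho σ hs hs2, ho σ' e h'])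
  have hm : σ' ∈ Subgroup.zpowers σ := hz ▸ Subgroup.mem_zpowers σ'
  classical
  have h3 := (IsOfFinOrder.mem_zpowers_iff_mem_range_orderOf (isOfFinOrder_of_finite σ)).1 hm
  rw [Finset.mem_image, ho σ hs hs2] at h3
  obtain ⟨k, hk, hke⟩ := h3
  rw [Finset.mem_range] at hk
  interval_cases k
  · exact absurd (by rw [← hke, pow_zero]) e
  · exact Or.inr (by rw [← hke, pow_one])

section
variable (h : ACfg A) {σ : F ≃+* F} (hs : σ ≠ 1) (hs2 : σ * σ = 1) {φ : Perm F} (hφ : φ ∈ A)
  (hφs : ∀ x, φ x = σ x)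
include hs2

theorem sig_sig (x : F) : σ (σ x) = x := by
  have := RingEquiv.congr_fun hs2 x
  exact this

theorem tr_fix (y : F) : σ (y + σ y) = y + σ y := by
  rw [map_add, sig_sig hs2, add_comm]

include hs in
theorem exists_tr_one : ∃ x₁ : F, x₁ + σ x₁ = 1 := by
  obtain ⟨x₀, hx⟩ : ∃ x₀, σ x₀ ≠ x₀ := by
    by_contra hn
    exact hs (RingEquiv.ext fun x => not_not.1 fun hx => hn ⟨x, hx⟩)
  have hne : x₀ + σ x₀ ≠ 0 := fun e => hx (CharTwo.add_eq_zero.1 e).symm
  refine ⟨(x₀ + σ x₀)⁻¹ * x₀, ?_⟩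
  rw [map_mul, map_inv₀, tr_fix hs2, ← mul_add, inv_mul_cancel₀ hne]

include h hs hφ hφs

/-- An involution fixing `0` is a scalar conjugate of the field involution. -/
theorem invs_zero {g : Perm F} (hg : g ∈ invs A 0) : ∃ d : F, d ≠ 0 ∧ ∀ x, g x = d * σ (x / d) := by
  obtain ⟨hgA, h0, h2, h1⟩ := hg
  obtain ⟨τ, hτ⟩ := exists_aut h hgA h0
  set c := g 1 with hc
  have hgg : ∀ x, g (g x) = x := fun x => by rw [← Perm.mul_apply, h2]; rfl
  have hcc : c * τ c = 1 := by rw [← hτ, hc, hgg]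
  have hτ2 : τ * τ = 1 := RingEquiv.ext fun x => by
    have e := hgg x
    rw [hτ x, hτ (c * τ x), map_mul, ← mul_assoc, hcc, one_mul] at e
    exact e
  rcases aut_unique hs hs2 hτ2 with e | e
  · rw [e, RingAut.one_apply] at hcc
    have hc1 : c = 1 := CharTwo.add_eq_zero.1 (mul_self_eq_zero.1 (by
      linear_combination hcc + (c + 1) * CharTwo.two_eq_zero (R := F)))
    exact absurd (Equiv.ext fun x => by rw [hτ, hc1, one_mul, e]; rfl) h1
  subst e
  rcases eq_or_ne c 1 with hc1 | hc1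
  · exact ⟨1, one_ne_zero, fun x => by rw [hτ, hc1, one_mul, div_one, one_mul]⟩
  have hd : (1 : F) + c ≠ 0 := fun e => hc1 (CharTwo.add_eq_zero.1 e).symm
  refine ⟨1 + c, hd, fun x => ?_⟩
  have hst : (τ (1 + c)) ≠ 0 := (map_ne_zero τ).2 hd
  rw [hτ, map_div₀]
  field_simp
  rw [map_add, map_one]
  linear_combination τ x * hcc

/-- The scalar conjugate of the field involution. -/
theorem exists_invs_zero {d : F} (hd : d ≠ 0) :
    ∃ g ∈ invs A 0, linFix g = line σ d ∧ ∀ x, g x = d * σ (x / d) := by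
  obtain ⟨m, hm, hmd⟩ := h.scalar d hd
  have hg : ∀ x, (m * φ * m⁻¹) x = d * σ (x / d) := fun x => by
    obtain ⟨y, rfl⟩ := m.surjective x
    rw [Perm.mul_apply, Perm.mul_apply, Perm.coe_inv, m.symm_apply_apply, hmd, hφs, hmd,
      mul_div_cancel_left₀ _ hd]
  refine ⟨m * φ * m⁻¹, ⟨mul_mem (mul_mem hm hφ) (inv_mem hm), by rw [hg, zero_div, map_zero, mul_zero],
    Equiv.ext fun x => by rw [Perm.mul_apply, hg, hg, mul_div_cancel_left₀ _ hd, sig_sig hs2,
      mul_div_cancel₀ _ hd]; rfl, fun e => hs (RingEquiv.ext fun x => ?_)⟩, ?_, hg⟩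
  · have := hg (d * x)
    rw [e, Perm.one_apply, mul_div_cancel_left₀ _ hd] at this
    exact (mul_left_cancel₀ hd this).symm
  · ext x
    show (m * φ * m⁻¹) x + (m * φ * m⁻¹) 0 = x ↔ σ (x / d) = x / d
    rw [hg, hg, zero_div, map_zero, mul_zero, add_zero, eq_div_iff hd, mul_comm]

theorem linFix_conj {g k : Perm F} (hg : g ∈ A) (hk : k ∈ A) :
    linFix (g * k * g⁻¹) = (fun x => g x + g 0) '' linFix k := by
  have hinj : Function.Injective fun x => g x + g 0 := fun x y e => g.injective (add_right_cancel e)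
  have key : ∀ z, (g * k * g⁻¹) (g z + g 0) + (g * k * g⁻¹) 0 = g (k z + k 0) + g 0 := fun z => by
    obtain ⟨w, hw⟩ := g.surjective (g z + g 0)
    obtain ⟨w0, hw0⟩ := g.surjective 0
    have e1 : w = z + w0 := g.injective (by rw [hw, h.aff g hg, hw0, add_zero])
    have hc : ∀ x, (g * k * g⁻¹) (g x) = g (k x) := fun x =>
      congrArg (fun y => g (k y)) (g.symm_apply_apply x)
    have c2 : (g * k * g⁻¹) 0 = g (k w0) := (congrArg _ hw0.symm).trans (hc w0)
    rw [← hw, hc, c2, e1, h.aff k hk, h.aff g hg, h.aff g hg, h.aff g hg]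
    linear_combination (g (k w0)) * CharTwo.two_eq_zero (R := F)
  ext y
  constructor
  · intro hy
    obtain ⟨z, hz⟩ := (Finite.injective_iff_surjective.1 hinj) y
    refine ⟨z, hinj ?_, hz⟩
    show g (k z + k 0) + g 0 = g z + g 0
    rw [← key, show g z + g 0 = y from hz]
    exact hy
  · rintro ⟨z, hz, rfl⟩
    show (g * k * g⁻¹) (g z + g 0) + (g * k * g⁻¹) 0 = g z + g 0
    rw [key, show k z + k 0 = z from hz]

theorem conj_mem_invs {g k : Perm F} (hg : g ∈ A) {p : F} (hk : k ∈ invs A p) :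
    g * k * g⁻¹ ∈ invs A (g p) := by
  obtain ⟨hkA, hp, h2, h1⟩ := hk
  refine ⟨mul_mem (mul_mem hg hkA) (inv_mem hg), ?_, ?_, fun e => h1 ?_⟩
  · rw [Perm.mul_apply, Perm.mul_apply, Perm.coe_inv, g.symm_apply_apply, hp]
  · calc g * k * g⁻¹ * (g * k * g⁻¹) = g * (k * k) * g⁻¹ := by group
      _ = 1 := by rw [h2]; group
  · exact conj_eq_one_iff.1 e

/-- Two involutions fixing two points coincide. -/
theorem invs_eq {p q : F} (hpq : p ≠ q) {g k : Perm F} (hg : g ∈ invs A p) (hgq : g q = q)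
    (hk : k ∈ invs A p) (hkq : k q = q) : g = k := by
  obtain ⟨t, ht, ht0⟩ := h.trans p
  have hti : t⁻¹ p = 0 := by rw [← ht0]; exact t.symm_apply_apply 0
  have key : ∀ {g : Perm F}, g ∈ invs A p → g q = q →
      t⁻¹ * g * t ∈ invs A 0 ∧ (t⁻¹ * g * t) (t⁻¹ q) = t⁻¹ q := fun {g} hg hgq => by
    have := conj_mem_invs h hs hs2 hφ hφs (inv_mem ht) hg
    rw [hti, inv_inv] at this
    refine ⟨this, ?_⟩
    rw [Perm.mul_apply, Perm.mul_apply, show t (t⁻¹ q) = q from t.apply_symm_apply q, hgq]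
  obtain ⟨hg0, hgr⟩ := key hg hgq
  obtain ⟨hk0, hkr⟩ := key hk hkq
  set r := t⁻¹ q with hr
  have hr0 : r ≠ 0 := fun e => hpq (by rw [← ht0, ← e, hr]; exact t.apply_symm_apply q)
  obtain ⟨d, hd, hgd⟩ := invs_zero h hs hs2 hφ hφs hg0
  obtain ⟨d', hd', hkd⟩ := invs_zero h hs hs2 hφ hφs hk0
  rw [hgd] at hgr
  rw [hkd] at hkr
  have hsr : σ r ≠ 0 := (map_ne_zero σ).2 hr0
  have e : t⁻¹ * g * t = t⁻¹ * k * t := Equiv.ext fun x => by
    have hsd := (map_ne_zero σ).2 hd
    have hsd' := (map_ne_zero σ).2 hd'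
    rw [hgd, hkd, map_div₀, map_div₀]
    rw [map_div₀] at hgr hkr
    field_simp at hgr hkr ⊢
    refine mul_right_cancel₀ hsr ?_
    linear_combination σ x * σ d' * hgr - σ x * σ d * hkr
  exact mul_left_cancel (mul_right_cancel e)

/-- The fixed space of an involution fixing a point is a line. -/
theorem linFix_mem_lines (hS : ∀ d : F, d ≠ 0 → ∀ p : F, ∃ g ∈ invs A p, linFix g = line σ d)
    {p : F} {g : Perm F} (hg : g ∈ invs A p) : ∃ d : F, d ≠ 0 ∧ linFix g = line σ d := by
  classical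
  let L : Set (Set F) := {s | ∃ d : F, d ≠ 0 ∧ s = line σ d}
  have hle : L ⊆ linFix '' invs A p := by
    rintro _ ⟨d, hd, rfl⟩
    obtain ⟨k, hk, e⟩ := hS d hd p
    exact ⟨k, hk, e⟩
  obtain ⟨t, ht, ht0⟩ := h.trans p
  have hcard : (invs A p).ncard ≤ (invs A 0).ncard := by
    refine Set.ncard_le_ncard_of_injOn (fun k => t⁻¹ * k * t) (fun k hk => ?_) (fun a _ b _ e => ?_)
      (Set.toFinite _)
    · have := conj_mem_invs h hs hs2 hφ hφs (inv_mem ht) hk
      rwa [show t⁻¹ p = 0 by rw [← ht0]; exact t.symm_apply_apply 0, inv_inv] at this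
    · exact mul_left_cancel (mul_right_cancel e)
  have h0 : (invs A 0).ncard ≤ L.ncard := by
    refine Set.ncard_le_ncard_of_injOn linFix (fun k hk => ?_) (fun a ha b hb e => ?_) (Set.toFinite _)
    · obtain ⟨d, hd, hkd⟩ := invs_zero h hs hs2 hφ hφs hk
      obtain ⟨k', hk', hl, hkd'⟩ := exists_invs_zero h hs hs2 hφ hφs hd
      exact ⟨d, hd, by rw [← hl, show k' = k from Equiv.ext fun x => by rw [hkd, hkd']]⟩
    · obtain ⟨d, hd, had⟩ := invs_zero h hs hs2 hφ hφs ha
      obtain ⟨d', hd', hbd⟩ := invs_zero h hs hs2 hφ hφs hb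
      have hmem : d ∈ linFix a := by
        show a d + a 0 = d
        rw [had, had, div_self hd, map_one, zero_div, map_zero, mul_zero, mul_one, add_zero]
      rw [e] at hmem
      have hdd : σ (d / d') = d / d' := by
        have := hmem
        simp only [linFix, Set.mem_setOf_eq, hbd, zero_div, map_zero, mul_zero, add_zero] at this
        rw [eq_div_iff hd', mul_comm]; exact this
      refine Equiv.ext fun x => ?_
      rw [had, hbd, show x / d = x / d' * (d / d')⁻¹ by field_simp, map_mul, map_inv₀, hdd]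
      field_simp
  have hsub : linFix '' invs A p = L :=
    (Set.eq_of_subset_of_ncard_le hle ((Set.ncard_image_le (Set.toFinite _)).trans (hcard.trans h0))
      (Set.toFinite _)).symm
  have : linFix g ∈ L := hsub ▸ Set.mem_image_of_mem linFix hg
  obtain ⟨d, hd, e⟩ := this
  exact ⟨d, hd, e⟩

end

end Cfsg.Agent.GoodInvol.LemmaT
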