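import Cfsg.Agent.Lib.GoodInvol.LemmaT.Translate
import Cfsg.Agent.Lib.GoodInvol.LemmaT.Exotic

/-!
# Lemma T

A transitive group of affine permutations of `GF(q)` whose stabiliser of `0` is semilinear and contains
the scalars contains every translation, or `q = 8` and the group has order `168`.
-/

set_option autoImplicit false
set_option linter.style.haveILetI false
set_option linter.unusedSectionVars false

namespace Cfsg.Agent.GoodInvol.LemmaT

open Equiv

variable {F : Type} [Field F] [Fintype F] [CharP F 2] {A : Subgroup (Perm F)}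

/-- The stabiliser of `0` has odd order: `jLemma`. -/
theorem exotic_of_odd (h : ACfg A) (h8 : 8 ≤ Nat.card F) (hn : ¬ AllTrans A)
    (hodd : Odd (Nat.card (MulAction.stabilizer A (0 : F)))) : Nat.card F = 8 ∧ Nat.card A = 168 := by
  have hL : ∀ (g : A) (x y : F), (g : Perm F) (x + y) + (g : Perm F) 0 =
      ((g : Perm F) x + (g : Perm F) 0) + ((g : Perm F) y + (g : Perm F) 0) := fun g x y => by
    rw [h.aff _ g.2]; ring
  let ρ : A →* AddMonoid.End F :=
    { toFun := fun g => AddMonoidHom.mk' (fun x => (g : Perm F) x + (g : Perm F) 0) (hL g)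
      map_one' := AddMonoidHom.ext fun x => add_zero x
      map_mul' := fun g k => AddMonoidHom.ext fun x => lin_mul h g.2 x }
  have hρ : ∀ (g : A) (x : F), ρ g x = (g : Perm F) x + (g : Perm F) 0 := fun _ _ => rfl
  have hinj : Function.Injective ρ := (injective_iff_map_eq_one ρ).2 fun g hg => by
    have he : ∀ x, (g : Perm F) x = x + (g : Perm F) 0 := fun x => by
      have := DFunLike.congr_fun hg x
      rw [hρ] at this
      calc (g : Perm F) x = (g : Perm F) x + (g : Perm F) 0 + (g : Perm F) 0 := by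
            rw [add_assoc, CharTwo.add_self_eq_zero, add_zero]
        _ = x + (g : Perm F) 0 := by rw [this]; rfl
    rcases eq_or_ne ((g : Perm F) 0) 0 with e | e
    · exact Subtype.ext (Equiv.ext fun x => by rw [he, e, add_zero]; rfl)
    · exact absurd (allTrans_of_one h e g.2 he) hn
  have htr : MulAction.IsPretransitive A F := ⟨fun x y => by
    obtain ⟨g, hg, hg0⟩ := h.trans x
    obtain ⟨k, hk, hk0⟩ := h.trans y
    refine ⟨⟨k * g⁻¹, mul_mem hk (inv_mem hg)⟩, ?_⟩
    show k (g⁻¹ x) = y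
    rw [← hg0, Perm.coe_inv, g.symm_apply_apply, hk0]⟩
  have hw : ∀ j ∈ MulAction.stabilizer A (0 : F), ∀ x, ρ j x = (j : Perm F) x := fun j hj x => by
    rw [hρ, show (j : Perm F) 0 = 0 from hj, add_zero]
  have := TwoXDih.jLemma (F := F) (X := F) (by rwa [← Nat.card_eq_fintype_card]) ρ hinj (0 : F) htr
    Nat.card_eq_fintype_card hodd
    (fun c hc => by
      obtain ⟨g, hg, hgc⟩ := h.scalar c hc
      exact ⟨⟨g, hg⟩, (show g 0 = 0 by rw [hgc, mul_zero]), fun x => by
        rw [hρ, hgc, hgc, mul_zero, add_zero]⟩)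
    (fun j hj c hc p hp hjp => by
      have := hc p
      rw [hw j hj, show (j : Perm F) p = p from hjp] at this
      exact (mul_eq_right₀ hp).1 this.symm)
    (fun j hj c => by
      obtain ⟨c2, hc2⟩ := h.semi _ j.2 hj c
      exact ⟨c2, fun x => by rw [hw j hj, hw j hj]; exact hc2 x⟩)
  rwa [← Nat.card_eq_fintype_card] at this

/-- An involution fixing `0` gives a field involution in the group. -/
theorem exists_field_inv (h : ACfg A) (heven : ¬ Odd (Nat.card (MulAction.stabilizer A (0 : F)))) :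
    ∃ σ : F ≃+* F, σ ≠ 1 ∧ σ * σ = 1 ∧ ∃ φ ∈ A, ∀ x, φ x = σ x := by
  haveI : Fact (Nat.Prime 2) := ⟨Nat.prime_two⟩
  rw [Nat.not_odd_iff_even, even_iff_two_dvd] at heven
  obtain ⟨s, hs⟩ := exists_prime_orderOf_dvd_card' 2 heven
  have hs2 : s * s = 1 := by rw [← pow_two, ← hs, pow_orderOf_eq_one]
  set g : Perm F := ((s : A) : Perm F) with hg
  have hgA : g ∈ A := (s : A).2
  have hg0 : g 0 = 0 := s.2
  have hgg : ∀ x, g (g x) = x := fun x => congrArg (fun t : MulAction.stabilizer A (0 : F) => ((t : A) : Perm F) x) hs2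
  obtain ⟨σ, hσ⟩ := exists_aut h hgA hg0
  have hcc : g 1 * σ (g 1) = 1 := by rw [← hσ, hgg]
  have hσ2 : σ * σ = 1 := RingEquiv.ext fun x => by
    have e := hgg x
    rw [hσ x, hσ (g 1 * σ x), map_mul, ← mul_assoc, hcc, one_mul] at e
    exact e
  have hc : g 1 ≠ 0 := one_ne_of_fix h hg0
  have hσ1 : σ ≠ 1 := fun e => by
    rw [e, RingAut.one_apply] at hcc
    have hc1 : g 1 = 1 := CharTwo.add_eq_zero.1 (mul_self_eq_zero.1 (by
      linear_combination hcc + (g 1 + 1) * CharTwo.two_eq_zero (R := F)))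
    have : s = 1 := Subtype.ext (Subtype.ext (Equiv.ext fun x => by
      show g x = x
      rw [hσ, hc1, one_mul, e]; rfl))
    rw [this, orderOf_one] at hs
    exact absurd hs (by norm_num)
  obtain ⟨m, hm, hmc⟩ := h.scalar (g 1)⁻¹ (inv_ne_zero hc)
  exact ⟨σ, hσ1, hσ2, m * g, mul_mem hm hgA, fun x => by
    rw [Perm.mul_apply, hmc, hσ x, ← mul_assoc, inv_mul_cancel₀ hc, one_mul]⟩

/-- The centraliser of the field involution is transitive on the fixed field. -/
theorem exists_cent_trans (h : ACfg A) {σ : F ≃+* F} (hs : σ ≠ 1) (hs2 : σ * σ = 1) {φ : Perm F}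
    (hφ : φ ∈ A) (hφs : ∀ x, φ x = σ x) :
    ∀ e ∈ fixK σ, ∃ g ∈ A, (∀ x, g (σ x) = σ (g x)) ∧ g 0 = e := by
  intro e he
  obtain ⟨g, hg, hg0⟩ := h.trans e
  have hk : g⁻¹ * φ * g ∈ invs A 0 := by
    have := conj_mem_invs h hs hs2 hφ hφs (inv_mem hg) (phi_mem_invs h hs hs2 hφ hφs he)
    rwa [show g⁻¹ e = 0 by rw [← hg0]; exact g.symm_apply_apply 0, inv_inv] at this
  obtain ⟨d, hd, hkd⟩ := invs_zero h hs hs2 hφ hφs hk
  obtain ⟨m, hm, hmd⟩ := h.scalar d hd
  refine ⟨g * m, mul_mem hg hm, fun x => ?_, by rw [Perm.mul_apply, hmd, mul_zero, hg0]⟩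
  have := congrArg g (hkd (d * x))
  rw [Perm.mul_apply, Perm.mul_apply, Perm.coe_inv, g.apply_symm_apply, hφs,
    mul_div_cancel_left₀ _ hd] at this
  rw [Perm.mul_apply, Perm.mul_apply, hmd, hmd, this]

theorem lemmaT_aux (n : ℕ) : ∀ (F : Type) [Field F] [Fintype F] [CharP F 2] (A : Subgroup (Perm F)),
    Nat.card F = n → ACfg A → AllTrans A ∨ (Nat.card F = 8 ∧ Nat.card A = 168) := by
  induction n using Nat.strong_induction_on with
  | _ n ih =>
  intro F _ _ _ A hn h
  by_cases hA : AllTrans A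
  · exact Or.inl hA
  obtain ⟨k, -, hk⟩ := FiniteField.card F 2
  rw [← Nat.card_eq_fintype_card] at hk
  have h8 : 8 ≤ Nat.card F := by
    by_contra hlt
    rw [hk] at hlt
    have hk3 : (k : ℕ) < 3 := by
      by_contra h3
      exact hlt ((Nat.pow_le_pow_right (by norm_num : 1 ≤ 2) (le_of_not_gt h3)).trans' (by norm_num))
    have hk1 : 1 ≤ (k : ℕ) := k.pos
    interval_cases hkk : (k : ℕ)
    · exact hA (allTrans_two h (by rw [hk]; rfl))
    · exact hA (allTrans_four h (by rw [hk]; rfl))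
  by_cases hodd : Odd (Nat.card (MulAction.stabilizer A (0 : F)))
  · exact Or.inr (exotic_of_odd h h8 hA hodd)
  obtain ⟨σ, hs, hs2, φ, hφ, hφs⟩ := exists_field_inv h hodd
  have hT := exists_cent_trans h hs hs2 hφ hφs
  haveI : Fintype (fixK σ) := Fintype.ofFinite _
  have hq : Nat.card (fixK σ) ^ 2 = Nat.card F := by
    have := fixK_card_pow σ
    rwa [orderOf_eq_prime (by rw [pow_two, hs2]) hs] at this
  have hq2 : 3 ≤ Nat.card (fixK σ) := by nlinarith
  have hlt : Nat.card (fixK σ) < n := by rw [← hn, ← hq]; nlinarith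
  have hall : AllTrans (restr A σ) := by
    rcases ih _ hlt (fixK σ) (restr A σ) rfl (acfg_restr h σ hT) with h1 | ⟨hK, h168⟩
    · exact h1
    · exact not_exotic h hs hs2 hφ hφs (by rw [← hq, hK]; norm_num) hK hT h168
  have hFT : FixTrans A σ := fun e he => by
    obtain ⟨p, ⟨g, hg, hgc, hgp⟩, hp⟩ := hall ⟨e, he⟩
    exact ⟨g, hg, hgc, fun x hx => ((hgp ⟨x, hx⟩).symm.trans (congrArg Subtype.val (hp ⟨x, hx⟩)))⟩
  obtain ⟨l, hl0, hl1⟩ : ∃ l : fixK σ, l ≠ 0 ∧ l ≠ 1 := by
    classical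
    by_contra hne
    push Not at hne
    have h1 := Finset.card_le_card (fun x _ => by
      rw [Finset.mem_insert, Finset.mem_singleton]; exact or_iff_not_imp_left.2 (hne x) :
      (Finset.univ : Finset (fixK σ)) ⊆ {0, 1})
    rw [Finset.card_univ, ← Nat.card_eq_fintype_card] at h1
    have := h1.trans Finset.card_le_two
    omega
  exact Or.inl (allTrans_of_fix h hs hs2 hφ hφs hFT l.2 (fun e => hl0 (Subtype.ext e))
    fun e => hl1 (Subtype.ext e))

/-- Lemma T. -/
theorem lemmaT (h : ACfg A) : AllTrans A ∨ (Nat.card F = 8 ∧ Nat.card A = 168) :=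
  lemmaT_aux _ F A rfl h

end Cfsg.Agent.GoodInvol.LemmaT
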