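import Cfsg.Agent.Lib.SEMain.EndShape
import Cfsg.Agent.Lib.SEMain.Proof
import Cfsg.Agent.Lib.SEMain.Bender

/-!
# The torus of a strongly embedded subgroup with elementary regular subgroup

If the regular subgroup `Q` of `H` is elementary and `|H| ≤ |Q| (|Q| - 1)`, then `H` permutes the involutions
of `Q` transitively by commuting maps.
-/

set_option autoImplicit false
set_option linter.style.haveILetI false
set_option linter.unusedSectionVars false

namespace Cfsg.Agent.GoodInvol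

open Subgroup MulAction SEMain

universe u

variable {I : Type u} [Group I] [Finite I] {H Q : Subgroup I}

/-- Transitivity and commutativity of the maps induced on `Q`. -/
theorem torus_of_elementary (hse : Cfsg.IsStronglyEmbedded H) (hcore : H.normalCore = ⊥) (hp : HasPair H)
    (hQ : Reg H Q) (hQ2 : ∀ x ∈ Q, x * x = 1) (hcard : Nat.card H ≤ Nat.card Q * (Nat.card Q - 1)) :
    (∀ s t : I, s ∈ H → t ∈ H → orderOf s = 2 → orderOf t = 2 → ∃ x ∈ H, x * s * x⁻¹ = t) ∧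
      ∀ h ∈ H, ∀ h' ∈ H, ∀ q ∈ Q, h * (h' * q * h'⁻¹) * h⁻¹ = h' * (h * q * h⁻¹) * h'⁻¹ := by
  classical
  have hQc : ∀ x ∈ Q, ∀ y ∈ Q, x * y = y * x := fun x hx y hy => by
    have hi : ∀ z ∈ Q, z⁻¹ = z := fun z hz => inv_eq_of_mul_eq_one_left (hQ2 z hz)
    rw [← hi _ (mul_mem hx hy), mul_inv_rev, hi y hy, hi x hx]
  obtain ⟨hc, -⟩ := SEMain.stmt I H hse hcore hp.exists_four
  have hS : Setting H := ⟨hse, hcore, fun L _ _ X _ h1 h2 h3 => SEMain.stmt L X h1 h2 h3, hp⟩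
  obtain ⟨g1, hg1⟩ := exists_not_mem hse
  set b : I ⧸ H := (g1 : I ⧸ H) with hb
  have hab : ((1 : I) : I ⧸ H) ≠ b := fun e => hg1 (by
    rw [hb, QuotientGroup.eq, inv_one, one_mul] at e; exact e)
  set Dp := pairStab ((1 : I) : I ⧸ H) b with hDp
  have hD : ∀ d, d ∈ Dp ↔ d ∈ H ∧ g1⁻¹ * (d * g1) ∈ H := fun d => by
    rw [hDp, mem_pairStab, SEBrick.fix_base_iff]
    refine and_congr Iff.rfl ?_
    rw [hb, MulAction.Quotient.smul_coe, QuotientGroup.eq, ← inv_mem_iff]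
    simp [mul_assoc]
  -- the pair stabiliser meets the centraliser of the involutions trivially
  have hker : ∀ d ∈ Dp, d ∈ SERegular.invCent H → d = 1 := fun d hd hdc => by
    have hdQ : ∀ q ∈ Q, d * q = q * d := fun q hq => by
      rcases eq_or_ne q 1 with rfl | hq1
      · simp
      · exact (mem_centralizer_iff.1 (mem_inf.1 hdc).2 q ⟨Invol.order_two_of_sq (hQ2 q hq) hq1, hQ.le hq⟩).symm
    rw [← mem_bot (G := I), ← hcore]
    intro g
    by_cases hg : g⁻¹ ∈ H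
    · exact mul_mem (mul_mem (by simpa using inv_mem hg) ((hD d).1 hd).1) (by simpa using hg)
    obtain ⟨q, hq, hqg⟩ := hQ.trans g1 g⁻¹ hg1 hg
    rw [inv_inv] at hqg
    have e : g * d * g⁻¹ = g * (q * g1) * (g1⁻¹ * (d * g1)) * (g * (q * g1))⁻¹ := by
      calc g * d * g⁻¹ = g * (d * q * q⁻¹) * g⁻¹ := by group
        _ = g * (q * d * q⁻¹) * g⁻¹ := by rw [hdQ q hq]
        _ = _ := by group
    rw [e]
    exact mul_mem (mul_mem hqg ((hD d).1 hd).2) (inv_mem hqg)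
  obtain ⟨T, hT⟩ := exists_torus hS (weak_of_comm hS hc) hc hab hker
  -- `H = Q * Dp`
  have hdec : ∀ h ∈ H, ∃ q ∈ Q, ∃ d ∈ Dp, h = q * d := fun h hh => by
    obtain ⟨u, hu, he⟩ := hQ.trans g1 (h * g1) hg1 fun hm => hg1 (by
      simpa using H.mul_mem (H.inv_mem hh) hm)
    refine ⟨u, hu, u⁻¹ * h, (hD _).2 ⟨mul_mem (inv_mem (hQ.le hu)) hh, ?_⟩, by group⟩
    simpa [mul_assoc] using H.inv_mem he
  have hle : Nat.card Q * Nat.card Dp ≤ Nat.card H := by
    rw [← Nat.card_prod]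
    refine Nat.card_le_card_of_injective
      (fun z : Q × Dp => (⟨z.1 * z.2, mul_mem (hQ.le z.1.2) ((hD _).1 z.2.2).1⟩ : H)) ?_
    rintro ⟨q, d⟩ ⟨q', d'⟩ e
    have e' : (q : I) * d = q' * d' := congrArg Subtype.val e
    have h1 : (q' : I)⁻¹ * q = d' * (d : I)⁻¹ := by
      rw [eq_mul_inv_iff_mul_eq, mul_assoc, e', inv_mul_cancel_left]
    have h2 : (q' : I)⁻¹ * q = 1 := hQ.reg g1 hg1 _ (mul_mem (inv_mem q'.2) q.2) (by
      rw [h1]; exact ((hD _).1 (mul_mem d'.2 (inv_mem d.2))).2)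
    obtain rfl : q' = q := Subtype.ext (inv_mul_eq_one.1 h2)
    exact Prod.ext rfl (Subtype.ext (mul_left_cancel e'))
  -- the torus is the whole pair stabiliser
  obtain ⟨s0, hs0H, hs0⟩ := Invol.exists_invol hse.2.1
  have hTcard : Nat.card Q - 1 ≤ Nat.card T := by
    have h1 : Nat.card {q : Q // q ≠ 1} = Nat.card Q - 1 := by
      haveI := Fintype.ofFinite Q
      rw [Nat.card_eq_fintype_card, Fintype.card_subtype_compl, Fintype.card_subtype_eq,
        ← Nat.card_eq_fintype_card]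
    have hex : ∀ q : {q : Q // q ≠ 1}, ∃ x : T, (x : I) * s0 * (x : I)⁻¹ = (q.1 : I) := fun q => by
      obtain ⟨x, hx, hxs⟩ := hT.trans s0 q.1 hs0H (hQ.le q.1.2) hs0
        (Invol.order_two_of_sq (hQ2 _ q.1.2) fun e => q.2 (Subtype.ext e))
      exact ⟨⟨x, hx⟩, hxs⟩
    choose f hf using hex
    rw [← h1]
    exact Nat.card_le_card_of_injective f fun q q' e => Subtype.ext (Subtype.ext (by rw [← hf, e, hf]))
  have hTD : T = Dp := eq_of_le_of_card_ge hT.le (by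
    have h1 : Nat.card Dp ≤ Nat.card Q - 1 := Nat.le_of_mul_le_mul_left (hle.trans hcard) Nat.card_pos
    omega)
  refine ⟨fun s t hs ht hs2 ht2 => ?_, fun h hh h' hh' q hq => ?_⟩
  · obtain ⟨x, hx, hxs⟩ := hT.trans s t hs ht hs2 ht2
    exact ⟨x, ((hD x).1 (hT.le hx)).1, hxs⟩
  · obtain ⟨u, hu, d, hd, rfl⟩ := hdec h hh
    obtain ⟨v, hv, d', hd', rfl⟩ := hdec h' hh'
    have hfix : ∀ x ∈ Q, ∀ z ∈ Q, x * z * x⁻¹ = z := fun x hx z hz => by
      rw [hQc x hx z hz, mul_inv_cancel_right]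
    have hdH := ((hD d).1 hd).1
    have hdH' := ((hD d').1 hd').1
    have hdd : d * d' = d' * d := hT.comm d (hTD ▸ hd) d' (hTD ▸ hd')
    have hsimp : ∀ x ∈ Q, ∀ e ∈ H, ∀ z ∈ Q, x * e * z * (x * e)⁻¹ = e * z * e⁻¹ := fun x hx e he z hz => by
      rw [show x * e * z * (x * e)⁻¹ = x * (e * z * e⁻¹) * x⁻¹ by group, hfix x hx _ (hQ.conj_mem he hz)]
    rw [hsimp v hv d' hdH' q hq, hsimp u hu d hdH q hq, hsimp u hu d hdH _ (hQ.conj_mem hdH' hq),
      hsimp v hv d' hdH' _ (hQ.conj_mem hdH hq)]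
    calc d * (d' * q * d'⁻¹) * d⁻¹ = (d * d') * q * (d * d')⁻¹ := by group
      _ = (d' * d) * q * (d' * d)⁻¹ := by rw [hdd]
      _ = _ := by group

end Cfsg.Agent.GoodInvol
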