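import Cfsg.Agent.Lib.GoodInvol.FixParams
import Cfsg.Agent.Lib.GoodInvol.LemmaT.TorusSE
import Cfsg.Agent.Lib.GoodInvol.LemmaT.CosetTrans

/-!
# Translations of `w E` when the fixed points form a projective line

If `w` fixes `|E| + 1` points, the elements of the stabiliser of `a` in the centraliser of `w` normalising `E`
and inducing elements of the induced group act on `E` as a transitive abelian group; by Lemma T the
translations of `w E` then come from the centraliser of `E`, or `|E| = 8`.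
-/

set_option autoImplicit false
set_option linter.style.haveILetI false
set_option linter.unusedSectionVars false

namespace Cfsg.Agent.GoodInvol

open Subgroup MulAction

universe u

variable {G : Type u} [Group G] [Finite G] {Ω : Type u} [MulAction G Ω] [Finite Ω] [FaithfulSMul G Ω] {D : Set G}

namespace Crit

variable (h : Crit D Ω)
include h

/-- Every element of the stabiliser acts like an element normalising `E` followed by one of `E`. -/
theorem exists_lift_norm {w : G} {a : Ω} (T : Sylow 2 (ptC w a)) {E : Subgroup G}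
    (hE : ESet D w a ((T : Subgroup (ptC w a)).map (ptC w a).subtype) E) (c : ptC w a) :
    ∃ n : ptC w a, (∀ x : G, (n : G) * x * (n : G)⁻¹ ∈ E ↔ x ∈ E) ∧
      ∃ e : ptC w a, (e : G) ∈ E ∧ fixAct w a c = fixAct w a e * fixAct w a n := by
  haveI : Fact (Nat.Prime 2) := ⟨Nat.prime_two⟩
  set f := fixAct (Ω := Ω) w a with hf
  set E0 := E.subgroupOf (ptC w a) with hE0
  set T0 := (T : Subgroup (ptC w a)) with hT0
  set Y := (E0.map f).comap f with hY
  haveI hYn : Y.Normal := ⟨by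
    rintro s ⟨e, he, hes⟩ g
    have heE : (e : G) ∈ E := mem_subgroupOf.1 he
    rcases (hE.mem (e : G)).1 heE with h1 | ⟨heD, -⟩
    · refine ⟨1, one_mem _, ?_⟩
      rw [map_one, map_mul, map_mul, map_inv, ← hes, show e = 1 from Subtype.ext h1, map_one, mul_one,
        mul_inv_cancel]
    · obtain ⟨e', he', -, hfe'⟩ := hE.lift _ (h.conj g e heD) (g * e * g⁻¹).2
      obtain ⟨e0, he0T, rfl⟩ := hE.le he'
      refine ⟨e0, mem_subgroupOf.2 he', ?_⟩
      rw [show f e0 = f (g * e * g⁻¹) from fixAct_eq_iff.2 hfe', map_mul, map_mul, map_inv, hes, map_mul,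
        map_mul, map_inv]⟩
  obtain ⟨PY, hPY⟩ := PBasic.exists_sylow_subgroupOf T Y
  have hgmem : c ∈ Subgroup.normalizer (((PY : Subgroup Y).map Y.subtype : Subgroup (ptC w a)) : Set (ptC w a)) ⊔ Y := by
    rw [Sylow.normalizer_sup_eq_top]; exact mem_top _
  rw [sup_comm, mem_sup_of_normal_left] at hgmem
  obtain ⟨s, hs, n, hn, rfl⟩ := hgmem
  have hset : (PY : Subgroup Y).map Y.subtype = T0 ⊓ Y := by rw [hPY, subgroupOf_map_subtype]
  rw [hset, mem_normalizer_iff] at hn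
  have hiff : ∀ z : ptC w a, (z : G) ∈ E ↔ z = 1 ∨ ((z : G) ∈ D ∧ z ∈ T0 ⊓ Y) := fun z => by
    rw [hE.mem]
    refine ⟨?_, ?_⟩
    · rintro (h1 | ⟨h1, z', hz', e⟩)
      · exact Or.inl (Subtype.ext h1)
      · obtain rfl : z' = z := Subtype.ext e
        exact Or.inr ⟨h1, hz', ⟨z', mem_subgroupOf.2 ((hE.mem _).2 (Or.inr ⟨h1, z', hz', rfl⟩)), rfl⟩⟩
    · rintro (rfl | ⟨h1, h2⟩)
      · exact Or.inl rfl
      · exact Or.inr ⟨h1, z, h2.1, rfl⟩
  have hnE : ∀ z : ptC w a, ((n * z * n⁻¹ : ptC w a) : G) ∈ E ↔ (z : G) ∈ E := fun z => by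
    rw [hiff, hiff, ← hn z, conj_eq_one_iff]
    refine or_congr_right (and_congr_left' ⟨fun hD => ?_, fun hD => h.conj n z hD⟩)
    have := h.conj (n : G)⁻¹ _ hD
    simpa [mul_assoc] using this
  have hEX : ∀ x ∈ E, x ∈ ptC w a := fun x hx => map_subtype_le _ (hE.le hx)
  refine ⟨n, fun x => ⟨fun hx => ?_, fun hx => (hnE ⟨x, hEX x hx⟩).2 hx⟩, ?_⟩
  · have hx' : x ∈ ptC w a := by
      have := mul_mem (mul_mem (inv_mem n.2) (hEX _ hx)) n.2
      rwa [show (n : G)⁻¹ * ((n : G) * x * (n : G)⁻¹) * n = x by group] at this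
    exact (hnE ⟨x, hx'⟩).1 hx
  · obtain ⟨e, he, hes⟩ := hs
    exact ⟨e, mem_subgroupOf.1 he, by rw [map_mul, hes]⟩

variable (hB : Below.{u} (Nat.card G)) (hgen : closure D = ⊤)
include hB hgen

/-- The transitive abelian group of `E`. -/
theorem exists_torus {w : G} (hw : orderOf w = 2) (hbad : ¬ OneFix Ω w) {a : Ω} (ha : w • a = a)
    (T : Sylow 2 (ptC w a)) {E : Subgroup G}
    (hE : ESet D w a ((T : Subgroup (ptC w a)).map (ptC w a).subtype) E)
    (hf : (fixSet Ω w).ncard = Nat.card E + 1) :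
    ∃ K : Subgroup G, K ≤ cosetNorm E w ⊓ stabilizer G a ∧ (∀ k ∈ K, k * w = w * k) ∧
      (∀ e ∈ E, ∀ f ∈ E, e ≠ 1 → f ≠ 1 → ∃ k ∈ K, k * e * k⁻¹ = f) ∧
      (∀ k ∈ K, ∀ l ∈ K, ∀ e ∈ E, k * (l * e * l⁻¹) * k⁻¹ = l * (k * e * k⁻¹) * l⁻¹) ∧
      ∀ g ∈ cosetNorm E w ⊓ stabilizer G a, g * w = w * g → ∀ k ∈ K,
        ∃ k' ∈ K, ∀ e ∈ E, g * (k * e * k⁻¹) * g⁻¹ = k' * (g * e * g⁻¹) * k'⁻¹ := by
  classical
  haveI : Fact (Nat.Prime 2) := ⟨Nat.prime_two⟩
  have hTX : (T : Subgroup (ptC w a)).map (ptC w a).subtype ≤ ptC w a := map_subtype_le _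
  have hEX : ∀ x ∈ E, x ∈ ptC w a := fun x hx => hTX (hE.le hx)
  obtain ⟨r, ε, hP, hfix, hEc⟩ := h.exists_fix_params hB hgen hw hbad ha hTX hE
  have hε : ε = 1 := by
    rw [hf, hEc, add_left_inj] at hfix
    have h1 : r = ε * r := Nat.pow_right_injective le_rfl hfix
    have := hP.two_le
    exact (mul_eq_right₀ (by omega : r ≠ 0)).1 h1.symm
  subst hε
  rw [one_mul] at hfix
  -- the induced group
  have hCrit : Crit (cenD D w) (fixSub Ω w) := h.centralizer hw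
  have hGoal : Goal (cenD D w) (fixSub Ω w) := goal_centralizer hB h hgen hw ha
  set C := Subgroup.centralizer ({w} : Set G) with hC
  set aF : fixSub Ω w := ⟨a, ha⟩
  obtain ⟨xF, hax⟩ : ∃ xF : fixSub Ω w, aF ≠ xF := by
    have hb := hbad
    unfold OneFix at hb
    push Not at hb
    obtain ⟨p, q, hp, hq, hpq⟩ := hb
    by_cases hap : a = p
    · exact ⟨⟨q, hq⟩, fun e1 => hpq (hap.symm.trans (congrArg Subtype.val e1))⟩
    · exact ⟨⟨p, hp⟩, fun e1 => hap (congrArg Subtype.val e1)⟩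
  obtain ⟨hse, hcore⟩ := se_induced hCrit hGoal hax
  set I := induced (cenD D w) (fixSub Ω w) with hIdef
  set π := toPermHom C (fixSub Ω w) with hπ
  set H := stabilizer I aF with hH
  set f := fixAct (Ω := Ω) w a with hfdef
  have hfa : ∀ c : ptC w a, f c aF = aF := fun c => Subtype.ext (mem_ptC.1 c.2).2
  have hEI : ∀ e : ptC w a, (e : G) ∈ E → f e ∈ I := fun e he => by
    rcases (hE.mem _).1 he with h1 | ⟨h1, -⟩
    · rw [show e = 1 from Subtype.ext h1, map_one]; exact one_mem I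
    · exact mem_map_of_mem (K := closure (cenD D w)) π (subset_closure (show inclusion inf_le_left e ∈ cenD D w from h1))
  let eI : ∀ e : ptC w a, (e : G) ∈ E → I := fun e he => ⟨f e, hEI e he⟩
  have heH : ∀ e he, eI e he ∈ H := fun e _ => mem_stabilizer_iff.2 (hfa e)
  have hinj : ∀ e e' : ptC w a, (e : G) ∈ E → (e' : G) ∈ E → f e = f e' → (e : G) = e' := fun e e' he he' hee =>
    hE.inj _ he _ he' (fixAct_eq_iff.1 hee)
  have heord : ∀ (e : ptC w a) he, (e : G) ≠ 1 → orderOf (eI e he) = 2 := fun e he he1 => by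
    refine Invol.order_two_of_sq (Subtype.ext ?_) fun h1 => he1 ?_
    · show f e * f e = 1
      rw [← map_mul, show e * e = 1 from Subtype.ext (hE.sq _ he), map_one]
    · exact hinj e 1 he (one_mem E) (by rw [map_one]; exact congrArg Subtype.val h1)
  have hpair : SEMain.HasPair H := by
    obtain ⟨e, he, e', he', h1, h1', hne⟩ := hE.two
    refine ⟨eI ⟨e, hEX e he⟩ he, eI ⟨e', hEX e' he'⟩ he', heH ⟨e, hEX e he⟩ he, heH ⟨e', hEX e' he'⟩ he',
      heord ⟨e, hEX e he⟩ he h1, heord ⟨e', hEX e' he'⟩ he' h1',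
      fun e0 => hne (hinj ⟨e, hEX e he⟩ ⟨e', hEX e' he'⟩ he he' (congrArg Subtype.val e0)), Subtype.ext ?_⟩
    show f _ * f _ = f _ * f _
    rw [← map_mul, ← map_mul]
    exact congrArg f (Subtype.ext (hE.comm e he e' he').eq)
  obtain ⟨Q, hQ⟩ := SEMain.exists_reg SEMain.stmt hse hcore hpair
  obtain ⟨S, hS⟩ := hQ.exists_sylow hse
  obtain ⟨hScard, hSsq⟩ := hP.sylow S
  rw [show Nat.card S = Nat.card Q by rw [← hS], one_mul] at hScard
  rw [hS] at hSsq
  have hQ2 : ∀ x ∈ Q, x * x = 1 := fun x hx => by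
    have e : {x : I | x ∈ Q ∧ x * x = 1} = (Q : Set I) :=
      Set.eq_of_subset_of_ncard_le (fun y hy => hy.1) (by
        rw [hSsq, ← Nat.card_coe_set_eq]; exact hScard.le) (Set.toFinite _)
    exact (e.symm ▸ hx : x ∈ {x : I | x ∈ Q ∧ x * x = 1}).2
  have hidx : H.index = 2 ^ r + 1 := by
    haveI : IsPretransitive I (fixSub Ω w) := ⟨fun y z => by
      obtain ⟨g, hg, hgz⟩ := hCrit.exists_smul y z
      exact ⟨⟨π g, mem_map_of_mem _ hg⟩, hgz⟩⟩
    rw [hH, index_stabilizer_of_transitive]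
    exact (Nat.card_coe_set_eq _).trans hfix
  have hHcard : Nat.card H ≤ Nat.card Q * (Nat.card Q - 1) := by
    rw [hScard]
    rcases hP.dvd with ⟨-, hd⟩ | ⟨he, -⟩ | ⟨he, -⟩
    · rw [← H.card_mul_index, hidx, show 2 ^ (2 * r) - 1 = (2 ^ r + 1) * (2 ^ r - 1) by
        rw [mul_comm 2 r, pow_mul]; simpa using Nat.sq_sub_sq (2 ^ r) 1,
        show 2 ^ r * ((2 ^ r + 1) * (2 ^ r - 1)) = 2 ^ r * (2 ^ r - 1) * (2 ^ r + 1) by ring] at hd
      refine Nat.le_of_mul_le_mul_right (Nat.le_of_dvd ?_ hd) (Nat.succ_pos _)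
      have := Nat.pow_le_pow_right two_pos hP.two_le
      have h1 : 0 < 2 ^ r - 1 := by omega
      positivity
    · exact absurd he (by norm_num)
    · exact absurd he (by norm_num)
  obtain ⟨htr, hab⟩ := torus_of_elementary hse hcore hpair hQ hQ2 hHcard
  have heQ : ∀ e he, eI e he ∈ Q := fun e he => by
    rcases eq_or_ne (e : G) 1 with h1 | h1
    · rw [show eI e he = 1 from Subtype.ext (by
        show f e = 1; rw [show e = 1 from Subtype.ext h1, map_one])]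
      exact one_mem Q
    · exact hQ.invol_mem hse (heH e he) (heord e he h1)
  -- the group
  set K0 : Subgroup (ptC w a) := (H.map I.subtype).comap f with hK0
  refine ⟨K0.map (ptC w a).subtype ⊓ cosetNorm E w, ?_, ?_, ?_, ?_, ?_⟩
  · rintro k ⟨⟨k0, -, rfl⟩, hk⟩
    exact ⟨hk, (mem_ptC.1 k0.2).2⟩
  · rintro k ⟨⟨k0, -, rfl⟩, -⟩
    exact (mem_ptC.1 k0.2).1.eq
  · intro e he e' he' h1 h1'
    obtain ⟨x, hx, hxe⟩ := htr (eI ⟨e, hEX e he⟩ he) (eI ⟨e', hEX e' he'⟩ he') (heH ⟨e, hEX e he⟩ he) (heH ⟨e', hEX e' he'⟩ he')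
      (heord ⟨e, hEX e he⟩ he h1) (heord ⟨e', hEX e' he'⟩ he' h1')
    obtain ⟨k, -, hk⟩ := mem_map.1 x.2
    have hka : (k : G) • a = a := by
      have h2 : (x : Equiv.Perm (fixSub Ω w)) aF = aF := mem_stabilizer_iff.1 hx
      rw [← hk] at h2
      exact congrArg Subtype.val h2
    set c : ptC w a := ⟨k, mem_ptC.2 ⟨mem_centralizer_singleton_iff.1 k.2, hka⟩⟩ with hc
    have hcx : f c = (x : Equiv.Perm (fixSub Ω w)) := hk
    obtain ⟨n, hnE, e0, he0, hce⟩ := h.exists_lift_norm T hE c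
    rw [hcx] at hce
    set nI : I := (eI e0 he0)⁻¹ * x with hnI
    have hfn : f n = (nI : Equiv.Perm (fixSub Ω w)) := by
      show f n = (f e0)⁻¹ * (x : Equiv.Perm (fixSub Ω w))
      rw [hce, inv_mul_cancel_left]
    refine ⟨n, ⟨⟨n, ⟨nI, mul_mem (inv_mem (heH e0 he0)) hx, hfn.symm⟩, rfl⟩,
      mem_cosetNorm_of_conj hnE ?_⟩, ?_⟩
    · rw [(mem_ptC.1 n.2).1.eq, mul_inv_cancel_right, inv_mul_cancel]
      exact one_mem E
    · refine hinj (n * ⟨e, hEX e he⟩ * n⁻¹) ⟨e', hEX e' he'⟩ ((hnE e).2 he) he' ?_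
      have hQc : eI e0 he0 * eI ⟨e', hEX e' he'⟩ he' = eI ⟨e', hEX e' he'⟩ he' * eI e0 he0 := by
        have hi : ∀ z ∈ Q, z⁻¹ = z := fun z hz => inv_eq_of_mul_eq_one_left (hQ2 z hz)
        have h2 := mul_mem (heQ e0 he0) (heQ ⟨e', hEX e' he'⟩ he')
        rw [← hi _ h2, mul_inv_rev, hi _ (heQ e0 he0), hi _ (heQ ⟨e', hEX e' he'⟩ he')]
      have h3 : nI * eI ⟨e, hEX e he⟩ he * nI⁻¹ = eI ⟨e', hEX e' he'⟩ he' := by
        rw [hnI]
        calc (eI e0 he0)⁻¹ * x * eI ⟨e, hEX e he⟩ he * ((eI e0 he0)⁻¹ * x)⁻¹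
            = (eI e0 he0)⁻¹ * (x * eI ⟨e, hEX e he⟩ he * x⁻¹) * eI e0 he0 := by group
          _ = (eI e0 he0)⁻¹ * (eI e0 he0 * eI ⟨e', hEX e' he'⟩ he') := by rw [hxe, mul_assoc, hQc]
          _ = _ := inv_mul_cancel_left _ _
      rw [map_mul, map_mul, map_inv, hfn]
      exact congrArg Subtype.val h3
  · rintro k ⟨⟨k0, ⟨x, hx, hxk⟩, rfl⟩, hkE⟩ l ⟨⟨l0, ⟨y, hy, hyl⟩, rfl⟩, hlE⟩ e he
    change (x : Equiv.Perm (fixSub Ω w)) = f k0 at hxk
    change (y : Equiv.Perm (fixSub Ω w)) = f l0 at hyl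
    set e1 : ptC w a := ⟨e, hEX e he⟩ with he1
    refine hinj (k0 * (l0 * e1 * l0⁻¹) * k0⁻¹) (l0 * (k0 * e1 * k0⁻¹) * l0⁻¹)
      ((hkE.1 _).2 ((hlE.1 e).2 he)) ((hlE.1 _).2 ((hkE.1 e).2 he)) ?_
    have h2 := congrArg Subtype.val (hab x hx y hy (eI e1 he) (heQ e1 he))
    simp only [Subgroup.coe_mul, InvMemClass.coe_inv, hxk, hyl] at h2
    rw [map_mul, map_mul, map_mul, map_mul, map_mul, map_mul, map_mul, map_mul, map_inv, map_inv]
    exact h2
  · rintro g ⟨hgE, hga⟩ hgw k ⟨⟨k0, ⟨x, hx, hxk⟩, rfl⟩, hkE⟩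
    change (x : Equiv.Perm (fixSub Ω w)) = f k0 at hxk
    set g0 : ptC w a := ⟨g, mem_ptC.2 ⟨hgw, hga⟩⟩ with hg0
    refine ⟨g * (k0 : G) * g⁻¹, ⟨⟨g0 * k0 * g0⁻¹, ?_, rfl⟩, (cosetNorm E w).mul_mem ((cosetNorm E w).mul_mem hgE hkE) ((cosetNorm E w).inv_mem hgE)⟩,
      fun e _ => by show g * ((k0 : G) * e * (k0 : G)⁻¹) * g⁻¹ = _; group⟩
    show f (g0 * k0 * g0⁻¹) ∈ H.map I.subtype
    have hmem : f g0 * x * (f g0)⁻¹ ∈ I := by
      obtain ⟨k, hk, hkt⟩ := mem_map.1 x.2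
      refine ⟨inclusion inf_le_left g0 * k * (inclusion inf_le_left g0)⁻¹, ?_, ?_⟩
      · have hle : closure (cenD D w) ≤ (closure (cenD D w)).comap (MulAut.conj (inclusion inf_le_left g0)).toMonoidHom :=
          (closure_le _).2 fun d hd => subset_closure (hCrit.conj _ d hd)
        exact hle hk
      · rw [map_mul, map_mul, map_inv, hkt]
        rfl
    refine ⟨⟨_, hmem⟩, mem_stabilizer_iff.2 ?_, ?_⟩
    · show (f g0 * (x : Equiv.Perm (fixSub Ω w)) * (f g0)⁻¹) aF = aF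
      rw [Equiv.Perm.mul_apply, Equiv.Perm.mul_apply, Equiv.Perm.inv_eq_iff_eq.2 (hfa g0).symm,
        show (x : Equiv.Perm (fixSub Ω w)) aF = aF from mem_stabilizer_iff.1 hx, hfa]
    · show f g0 * (x : Equiv.Perm (fixSub Ω w)) * (f g0)⁻¹ = f (g0 * k0 * g0⁻¹)
      rw [map_mul, map_mul, map_inv, hxk]

/-- Translations of `w E` when `w` fixes `|E| + 1` points. -/
theorem translations_line {w : G} (hw : orderOf w = 2) (hbad : ¬ OneFix Ω w) {a : Ω} (ha : w • a = a)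
    (T : Sylow 2 (ptC w a)) {E : Subgroup G}
    (hE : ESet D w a ((T : Subgroup (ptC w a)).map (ptC w a).subtype) E)
    (hf : (fixSet Ω w).ncard = Nat.card E + 1) :
    (∀ e ∈ E, ∃ g ∈ cosetNorm E w ⊓ stabilizer G a, (∀ x ∈ E, g * x * g⁻¹ = x) ∧ g * w * g⁻¹ = w * e) ∨
      (Nat.card E = 8 ∧ 168 ∣ Nat.card ↥(cosetNorm E w ⊓ stabilizer G a)) := by
  obtain ⟨K, hKN, hKw, hKtr, hKab, hnorm⟩ := h.exists_torus hB hgen hw hbad ha T hE hf
  refine coset_translations hE.sq (fun e he f hf => (hE.comm e he f hf).eq) ?_ (fun g hg x hx => (hg.1.1 x).2 hx)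
    (fun g hg => by rw [hg.1.2 w, inv_mul_cancel]; exact one_mem E)
    (fun e he => h.exists_conj_coset hB hgen hw hbad ha (map_subtype_le _) hE he) hKN hKw hKtr hKab hnorm
  obtain ⟨e, he, -, -, he1, -, -⟩ := hE.two
  exact ⟨e, he, he1⟩

end Crit

end Cfsg.Agent.GoodInvol
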