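import Cfsg.Agent.Lib.GoodInvol.LemmaT.Lines

/-!
# Translations on the fixed field give all translations

An involution `χ` that commutes with `σ` and fixes a point outside `K` is a translation on `K`.  All
linear parts preserve the lines over `K`, so the linear part of `χ` is `y ↦ y + δ (y + σ y)`; two scalar
conjugates of it multiply to a translation.
-/

set_option autoImplicit false
set_option linter.style.haveILetI false
set_option linter.unusedSectionVars false

namespace Cfsg.Agent.GoodInvol.LemmaT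

open Equiv

variable {F : Type} [Field F] [Fintype F] [CharP F 2] {A : Subgroup (Perm F)}
variable (h : ACfg A) {σ : F ≃+* F} (hs : σ ≠ 1) (hs2 : σ * σ = 1) {φ : Perm F} (hφ : φ ∈ A)
  (hφs : ∀ x, φ x = σ x)

/-- Translations on the fixed field, by elements commuting with `σ`. -/
def FixTrans (A : Subgroup (Perm F)) (σ : F ≃+* F) : Prop :=
  ∀ e ∈ fixK σ, ∃ g ∈ A, (∀ x, g (σ x) = σ (g x)) ∧ ∀ x ∈ fixK σ, g x = x + e

include h hs hs2 hφ hφs

theorem phi_mem_invs {x : F} (hx : σ x = x) : φ ∈ invs A x :=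
  ⟨hφ, (hφs x).trans hx, Equiv.ext fun y => by rw [Perm.mul_apply, hφs, hφs, sig_sig hs2]; rfl,
    fun e => hs (RingEquiv.ext fun y => by rw [← hφs, e]; rfl)⟩

theorem linFix_phi : linFix φ = line σ 1 := by
  ext x
  show φ x + φ 0 = x ↔ σ (x / 1) = x / 1
  rw [hφs, hφs, map_zero, add_zero, div_one]

/-- An involution commuting with `σ`, fixing a point outside the fixed field. -/
theorem exists_chi (hT : FixTrans A σ) {p : F} (hp : σ p ≠ p) :
    ∃ χ ∈ invs A p, (∀ x, χ (σ x) = σ (χ x)) ∧ linFix χ = line σ 1 ∧ χ 0 ≠ 0 ∧ χ 0 ∈ fixK σ := by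
  obtain ⟨t, ht, ht0⟩ := h.trans p
  set r := t⁻¹ (σ p) with hr
  have hr0 : r ≠ 0 := fun e => hp (by
    rw [← (show t r = σ p from t.apply_symm_apply _), e, ht0])
  obtain ⟨k, hk, hkl, hkd⟩ := exists_invs_zero h hs hs2 hφ hφs hr0
  have hkr : k r = r := by rw [hkd, div_self hr0, map_one, mul_one]
  set χ := t * k * t⁻¹ with hχ
  have hχi : χ ∈ invs A p := by
    have := conj_mem_invs h hs hs2 hφ hφs ht hk
    rwa [ht0] at this
  have hχq : χ (σ p) = σ p := by
    rw [hχ, Perm.mul_apply, Perm.mul_apply, show t⁻¹ (σ p) = r from rfl, hkr]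
    exact t.apply_symm_apply _
  obtain ⟨hχA, hχp, hχ2, hχ1⟩ := id hχi
  -- commutation with the field involution
  have hφi : φ⁻¹ = φ := inv_eq_of_mul_eq_one_left (phi_mem_invs h hs hs2 hφ hφs (map_zero σ)).2.2.1
  have hcomm : ∀ x, χ (σ x) = σ (χ x) := fun x => by
    have h1 : φ * χ * φ⁻¹ ∈ invs A (σ p) := by
      have := conj_mem_invs h hs hs2 hφ hφs hφ hχi
      rwa [hφs] at this
    have h2 : (φ * χ * φ⁻¹) p = p := by
      rw [hφi, Perm.mul_apply, Perm.mul_apply, hφs p, hχq, hφs, sig_sig hs2]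
    have e := invs_eq h hs hs2 hφ hφs (fun e => hp e) h1 h2
      (show χ ∈ invs A (σ p) from ⟨hχA, hχq, hχ2, hχ1⟩) hχp
    have := Equiv.congr_fun e (σ x)
    rw [hφi, Perm.mul_apply, Perm.mul_apply, hφs (σ x), sig_sig hs2, hφs] at this
    exact this.symm
  have hK : ∀ x ∈ fixK σ, χ x ∈ fixK σ := fun x hx => by
    rw [mem_fixK] at hx ⊢; rw [← hcomm, hx]
  -- no fixed point in the fixed field
  have hnf : ∀ x ∈ fixK σ, χ x ≠ x := fun x hx hxf => by
    obtain ⟨z, hz, hz0, hzL⟩ : ∃ z ∈ fixK σ, z ≠ 0 ∧ χ z + χ 0 = z := by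
      rcases eq_or_ne (χ 1 + χ 0) 1 with e | e
      · exact ⟨1, one_mem _, one_ne_zero, e⟩
      · refine ⟨χ 1 + χ 0 + 1, add_mem (add_mem (hK 1 (one_mem _)) (hK 0 (zero_mem _))) (one_mem _),
          fun e0 => e (CharTwo.add_eq_zero.1 e0), ?_⟩
        have := lin_lin h hχA hχ2 1
        rw [h.aff χ hχA (χ 1 + χ 0) 1]
        linear_combination this
    have hxz : χ (x + z) = x + z := by
      rw [h.aff χ hχA, hxf]; linear_combination hzL
    have hxz' : φ (x + z) = x + z := by rw [hφs, map_add, hx, hz]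
    have e := invs_eq h hs hs2 hφ hφs (fun e => hz0 (add_eq_left.1 e.symm))
      (show χ ∈ invs A x from ⟨hχA, hxf, hχ2, hχ1⟩) hxz
      (phi_mem_invs h hs hs2 hφ hφs hx) hxz'
    rw [e, hφs] at hχp
    exact hp hχp
  have he : χ 0 ∈ fixK σ := hK 0 (zero_mem _)
  have he0 : χ 0 ≠ 0 := hnf 0 (zero_mem _)
  have hLe : ∀ x, χ (χ x + χ 0) + χ 0 = x := lin_lin h hχA hχ2
  have hce : χ (χ 0) = 0 := by
    have := Equiv.congr_fun hχ2 0
    simpa [Perm.mul_apply] using this
  -- the linear part is the identity on the fixed field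
  have hid : ∀ x ∈ fixK σ, χ x + χ 0 = x := by
    intro x hx
    by_contra hne
    set e := χ 0 with hedef
    set u := χ x + e + x with hu
    have hu0 : u ≠ 0 := fun e0 => hne (CharTwo.add_eq_zero.1 e0)
    have huK : u ∈ fixK σ := add_mem (add_mem (hK x hx) he) hx
    obtain ⟨g, hg, -, hge⟩ := hT e he
    have hk : ∀ y ∈ fixK σ, (χ * g) y = χ y + e := fun y hy => by
      rw [Perm.mul_apply, hge y hy, h.aff χ hχA, hce]; ring
    have hk0 : (χ * g) 0 = 0 := by rw [hk 0 (zero_mem _), ← hedef]; exact CharTwo.add_self_eq_zero e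
    obtain ⟨c2, hc2⟩ := h.semi _ (mul_mem hχA hg) hk0 (e / u)
    have hse : e / u ∈ fixK σ := div_mem he huK
    have hku : (χ * g) u = u := by
      rw [hk u huK, hu, h.aff χ hχA (χ x + e) x, ← hedef]
      linear_combination hLe x
    have hke : (χ * g) e = e := by rw [hk e he, hce, zero_add]
    have hc : c2 = e / u := by
      have := hc2 u
      rw [div_mul_cancel₀ _ hu0, hke, hku] at this
      rw [eq_div_iff hu0]; exact this.symm
    refine hnf (e / u * x) (mul_mem hse hx) ?_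
    have := hc2 x
    rw [hk _ (mul_mem hse hx), hk x hx, hc] at this
    have hsu : e / u * (χ x + e + x) = e := by rw [← hu]; exact div_mul_cancel₀ _ hu0
    linear_combination this + hsu - e / u * x * CharTwo.two_eq_zero (R := F)
  refine ⟨χ, hχi, hcomm, ?_, he0, he⟩
  -- the fixed space
  have hle : line σ 1 ⊆ linFix χ := fun x hx => hid x (by
    have : σ (x / 1) = x / 1 := hx
    rwa [div_one] at this)
  refine (Set.eq_of_subset_of_ncard_le hle ?_ (Set.toFinite _)).symm
  rw [hχ, linFix_conj h hs hs2 hφ hφs ht hk.1, hkl]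
  refine (Set.ncard_image_le (Set.toFinite _)).trans ?_
  refine Set.ncard_le_ncard_of_injOn (fun y => y / r) (fun y hy => ?_) (fun a _ b _ e => ?_) (Set.toFinite _)
  · show σ (y / r / 1) = y / r / 1
    rw [div_one]; exact hy
  · exact (div_left_inj' hr0).1 e

/-- Every line is the fixed space of an involution at every point. -/
theorem exists_invs_line (hT : FixTrans A σ) (d : F) (hd : d ≠ 0) (p : F) :
    ∃ g ∈ invs A p, linFix g = line σ d := by
  obtain ⟨k, hk, hkl⟩ : ∃ k ∈ invs A (p / d), linFix k = line σ 1 := by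
    by_cases hp : σ (p / d) = p / d
    · exact ⟨φ, phi_mem_invs h hs hs2 hφ hφs hp, linFix_phi h hs hs2 hφ hφs⟩
    · obtain ⟨χ, hχ, -, hl, -⟩ := exists_chi h hs hs2 hφ hφs hT hp
      exact ⟨χ, hχ, hl⟩
  obtain ⟨m, hm, hmd⟩ := h.scalar d hd
  refine ⟨m * k * m⁻¹, ?_, ?_⟩
  · have := conj_mem_invs h hs hs2 hφ hφs hm hk
    rwa [hmd, mul_div_cancel₀ _ hd] at this
  · rw [linFix_conj h hs hs2 hφ hφs hm hk.1, hkl]
    ext y
    simp only [Set.mem_image, hmd, mul_zero, add_zero]
    constructor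
    · rintro ⟨z, hz, rfl⟩
      show σ (d * z / d) = d * z / d
      rw [mul_div_cancel_left₀ _ hd]
      simpa [line] using hz
    · intro hy
      exact ⟨y / d, (by show σ (y / d / 1) = y / d / 1; rw [div_one]; exact hy), mul_div_cancel₀ _ hd⟩

/-- Linear parts map lines to lines. -/
theorem lin_line (hT : FixTrans A σ) {g : Perm F} (hg : g ∈ A) {d : F} (hd : d ≠ 0) :
    ∃ d' : F, d' ≠ 0 ∧ (fun x => g x + g 0) '' line σ d = line σ d' := by
  obtain ⟨k, hk, hkl⟩ := exists_invs_line h hs hs2 hφ hφs hT d hd 0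
  obtain ⟨d', hd', e⟩ := linFix_mem_lines h hs hs2 hφ hφs (exists_invs_line h hs hs2 hφ hφs hT)
    (conj_mem_invs h hs hs2 hφ hφs hg hk)
  exact ⟨d', hd', by rw [← hkl, ← linFix_conj h hs hs2 hφ hφs hg hk.1, e]⟩

/-- Translations on the fixed field give all translations. -/
theorem allTrans_of_fix (hT : FixTrans A σ) {l : F} (hl : σ l = l) (hl0 : l ≠ 0) (hl1 : l ≠ 1) :
    AllTrans A := by
  obtain ⟨x₁, hx₁⟩ := exists_tr_one hs hs2
  have hx1f : σ x₁ ≠ x₁ := fun e => by
    rw [e, CharTwo.add_self_eq_zero] at hx₁; exact zero_ne_one hx₁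
  obtain ⟨χ, ⟨hχA, -, hχ2, -⟩, hcomm, hfix, he0, he⟩ := exists_chi h hs hs2 hφ hφs hT hx1f
  rw [mem_fixK] at he
  set e := χ 0 with hedef
  have hid : ∀ x, σ x = x → χ x + e = x := fun x hx => by
    have : x ∈ linFix χ := by
      rw [hfix]; show σ (x / 1) = x / 1; rwa [div_one]
    exact this
  set δ := χ x₁ + e + x₁ with hδ
  have hx0 : x₁ ≠ 0 := fun e => hx1f (by rw [e, map_zero])
  have htr : ∀ y, χ y + e + (σ (χ y) + e) = y + σ y := fun y => by
    rw [← hcomm]
    have := hid (y + σ y) (tr_fix hs2 y)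
    rw [h.aff χ hχA, ← hedef] at this
    linear_combination this
  have hform : ∀ y, χ y = y + δ * (y + σ y) + e := fun y => by
    set s := y + σ y with hsdef
    have hs' : σ s = s := tr_fix hs2 y
    have ha : σ (y + s * x₁) = y + s * x₁ := by
      rw [map_add, map_mul, hs']
      linear_combination s * hx₁ + hsdef + (σ y - s * x₁) * CharTwo.two_eq_zero (R := F)
    have hLsx : χ (s * x₁) + e = s * (χ x₁ + e) := by
      rcases eq_or_ne s 0 with h0 | h0
      · rw [h0, zero_mul, zero_mul, ← hedef]; exact CharTwo.add_self_eq_zero e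
      obtain ⟨d', hd', him⟩ := lin_line h hs hs2 hφ hφs hT hχA hx0
      have h1 : χ x₁ + e ∈ line σ d' := him ▸ Set.mem_image_of_mem _ (show σ (x₁ / x₁) = x₁ / x₁ by
        rw [div_self hx0, map_one])
      have h2 : χ (s * x₁) + e ∈ line σ d' := him ▸ Set.mem_image_of_mem _
        (show σ (s * x₁ / x₁) = s * x₁ / x₁ by rw [mul_div_cancel_right₀ _ hx0, hs'])
      set r := (χ (s * x₁) + e) / (χ x₁ + e) with hr
      have hne : χ x₁ + e ≠ 0 := fun e1 => hx0 (χ.injective (CharTwo.add_eq_zero.1 e1))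
      have hrr : σ r = r := by
        have h1' : σ ((χ x₁ + e) / d') = (χ x₁ + e) / d' := h1
        have h2' : σ ((χ (s * x₁) + e) / d') = (χ (s * x₁) + e) / d' := h2
        rw [hr, show (χ (s * x₁) + e) / (χ x₁ + e) = (χ (s * x₁) + e) / d' / ((χ x₁ + e) / d') by
          field_simp, map_div₀, h1', h2']
      have hmul : χ (s * x₁) + e = r * (χ x₁ + e) := by rw [hr, div_mul_cancel₀ _ hne]
      have t1 := htr (s * x₁)
      have t2 := htr x₁
      have hσm : σ (χ (s * x₁)) + e = r * (σ (χ x₁) + e) := by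
        have := congrArg σ hmul
        rwa [map_add σ, map_mul σ, map_add σ, he, hrr] at this
      rw [map_mul σ, hs'] at t1
      have hrs : r = s := by
        linear_combination t1 - hmul - hσm - r * t2 + (s - r) * hx₁
      rw [hmul, hrs]
    have h3 := hid _ ha
    rw [h.aff χ hχA, ← hedef] at h3
    rw [hδ]
    linear_combination h3 - hLsx - (s * (χ x₁ + e) + e) * CharTwo.two_eq_zero (R := F)
  obtain ⟨m, hm, hml⟩ := h.scalar l hl0
  have hne : e + l * e ≠ 0 := fun e1 => hl1 (by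
    have := CharTwo.add_eq_zero.1 e1
    exact (mul_eq_right₀ he0).1 this.symm)
  refine allTrans_of_one h hne (mul_mem (mul_mem (mul_mem hm hχA) (inv_mem hm)) hχA) fun y => ?_
  obtain ⟨w, hw⟩ := m.surjective (χ y)
  rw [Perm.mul_apply (m * χ * m⁻¹) χ, ← hw, Perm.mul_apply, Perm.mul_apply, Perm.coe_inv, m.symm_apply_apply,
    hml, hform w]
  rw [hml] at hw
  have hσw : l * σ w = σ (χ y) := by rw [← hw, map_mul, hl]
  have ht := htr y
  linear_combination (1 + δ) * hw + δ * hσw + δ * ht - hform y + (χ y - y - e - δ * e) * CharTwo.two_eq_zero (R := F)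

end Cfsg.Agent.GoodInvol.LemmaT
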